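import Mathlib

/-!
# A 2-group given by an elementary abelian normal subgroup and pc generators

`e 0, ..., e 10` are commuting involutions, `s 0, ..., s 6` act on their span by matrices and
satisfy pc relations modulo that span.
-/

set_option autoImplicit false

namespace Cfsg.Agent.FiSylow

/-- A matrix over the field with two elements, given by images of basis vectors, applied to `v`. -/
noncomputable def appV (m : List ℕ) (n v : ℕ) : ℕ :=
  Nat.rec (motive := fun _ => ℕ) 0
    (fun k ih => Nat.xor ih (cond (v.testBit k) (m.getD k 0) 0)) n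

theorem appV_zero (m : List ℕ) (v : ℕ) : appV m 0 v = 0 := rfl

theorem appV_succ (m : List ℕ) (n v : ℕ) :
    appV m (n + 1) v = appV m n v ^^^ cond (v.testBit n) (m.getD n 0) 0 := rfl

/-- Composite of the matrices of the bits of `w` below `n`, highest first. -/
noncomputable def actV (ms : List (List ℕ)) (n w : ℕ) : ℕ → ℕ :=
  Nat.rec (motive := fun _ => ℕ → ℕ) (fun v => v)
    (fun k ih v => ih (cond (w.testBit k) (appV (ms.getD k []) 11 v) v)) n

theorem actV_zero (ms : List (List ℕ)) (w v : ℕ) : actV ms 0 w v = v := rfl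

theorem actV_succ (ms : List (List ℕ)) (n w v : ℕ) :
    actV ms (n + 1) w v = actV ms n w (cond (w.testBit n) (appV (ms.getD n []) 11 v) v) := rfl

theorem appV_xor (m : List ℕ) (n a b : ℕ) : appV m n (a ^^^ b) = appV m n a ^^^ appV m n b := by
  induction n with
  | zero => simp [appV_zero]
  | succ n ih =>
    simp only [appV_succ, Nat.testBit_xor, ih]
    cases a.testBit n <;> cases b.testBit n <;>
      simp [Nat.xor_assoc, Nat.xor_comm, Nat.xor_left_comm]

theorem appV_of_low (m : List ℕ) {n a b : ℕ} (h : ∀ i < n, a.testBit i = b.testBit i) :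
    appV m n a = appV m n b := by
  induction n with
  | zero => rfl
  | succ n ih => rw [appV_succ, appV_succ, ih (fun i hi => h i (by omega)), h n (by omega)]

theorem appV_zero_vec (m : List ℕ) (n : ℕ) : appV m n 0 = 0 := by
  induction n with
  | zero => rfl
  | succ n ih => rw [appV_succ, ih, Nat.zero_testBit]; simp

theorem actV_xor (ms : List (List ℕ)) (w n : ℕ) :
    ∀ a b, actV ms n w (a ^^^ b) = actV ms n w a ^^^ actV ms n w b := by
  induction n with
  | zero => intro a b; rfl
  | succ n ih =>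
    intro a b
    simp only [actV_succ]
    cases w.testBit n <;> simp only [cond_true, cond_false]
    · exact ih a b
    · rw [appV_xor, ih]

theorem actV_zero_vec (ms : List (List ℕ)) (w n : ℕ) : actV ms n w 0 = 0 := by
  induction n with
  | zero => rfl
  | succ n ih => rw [actV_succ]; cases w.testBit n <;> simp [appV_zero_vec, ih]

/-- The action is the matrix of its values on the basis. -/
theorem actV_eq_appV (ms : List (List ℕ)) (w : ℕ) (r : List ℕ)
    (hr : ∀ j < 11, actV ms 7 w (2 ^ j) = r.getD j 0) :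
    ∀ n ≤ 11, ∀ v < 2 ^ n, actV ms 7 w v = appV r n v := by
  intro n hn
  induction n with
  | zero =>
    intro v hv
    obtain rfl : v = 0 := by simpa using hv
    rw [actV_zero_vec, appV_zero]
  | succ n ih =>
    intro v hv
    rw [appV_succ]
    by_cases h : v < 2 ^ n
    · rw [Nat.testBit_lt_two_pow h, ih (by omega) v h]
      simp
    · have hlow : v - 2 ^ n < 2 ^ n := by rw [pow_succ] at hv; omega
      have hxor : v = (v - 2 ^ n) ^^^ 2 ^ n := by
        apply Nat.eq_of_testBit_eq
        intro i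
        rw [Nat.testBit_xor, Nat.testBit_two_pow]
        conv_lhs => rw [show v = 2 ^ n + (v - 2 ^ n) by omega]
        rcases lt_trichotomy i n with hi | rfl | hi
        · rw [Nat.testBit_two_pow_add_gt hi]
          simp [hi.ne']
        · rw [Nat.testBit_two_pow_add_eq, Nat.testBit_lt_two_pow hlow]
          simp
        · have h2 : (2 : ℕ) ^ (n + 1) ≤ 2 ^ i := Nat.pow_le_pow_right (by norm_num) hi
          rw [Nat.testBit_lt_two_pow (by rw [pow_succ] at hv h2; omega),
            Nat.testBit_lt_two_pow (lt_of_lt_of_le hlow (Nat.pow_le_pow_right (by norm_num) hi.le))]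
          simp [hi.ne]
      have hbit : v.testBit n = true := by
        rw [show v = 2 ^ n + (v - 2 ^ n) by omega, Nat.testBit_two_pow_add_eq,
          Nat.testBit_lt_two_pow hlow]
        rfl
      rw [hbit, cond_true]
      conv_lhs => rw [hxor]
      rw [actV_xor, hr n (by omega), ih (by omega) _ hlow]
      congr 1
      refine appV_of_low r fun i hi => ?_
      conv_rhs => rw [show v = 2 ^ n + (v - 2 ^ n) by omega, Nat.testBit_two_pow_add_gt hi]

section

variable {G : Type*} [Group G] (e s : ℕ → G)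

/-- The element with coordinate bits `v`. -/
def evE : ℕ → ℕ → G
  | 0, _ => 1
  | n + 1, v => evE n v * cond (v.testBit n) (e n) 1

/-- The product of the pc generators with bits `w`. -/
def swS : ℕ → ℕ → G
  | 0, _ => 1
  | n + 1, w => swS n w * cond (w.testBit n) (s n) 1

/-- The defining relations. -/
structure Rels (ms : List (List ℕ)) (sq : List (ℕ × ℕ)) (cm : List (List (ℕ × ℕ))) : Prop where
  e_sq : ∀ j < 11, e j * e j = 1
  e_comm : ∀ i < 11, ∀ j < 11, e i * e j = e j * e i
  act : ∀ k < 7, ∀ j < 11, s k * e j = evE e 11 ((ms.getD k []).getD j 0) * s k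
  s_sq : ∀ k < 7, s k * s k = evE e 11 (sq.getD k (0, 0)).1 * swS s 7 (sq.getD k (0, 0)).2
  s_comm : ∀ k < 7, ∀ j < k,
    s k * s j = evE e 11 ((cm.getD k []).getD j (0, 0)).1 * swS s 7 ((cm.getD k []).getD j (0, 0)).2 * s k
  bound : ∀ k < 7, (∀ j < 11, (ms.getD k []).getD j 0 < 2048) ∧ (sq.getD k (0, 0)).1 < 2048 ∧
    (sq.getD k (0, 0)).2 < 2 ^ k ∧
    ∀ j < k, ((cm.getD k []).getD j (0, 0)).1 < 2048 ∧ ((cm.getD k []).getD j (0, 0)).2 < 2 ^ k

theorem evE_eq_of_low {n v v' : ℕ} (h : ∀ i < n, v.testBit i = v'.testBit i) :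
    evE e n v = evE e n v' := by
  induction n with
  | zero => rfl
  | succ n ih => rw [evE, evE, ih (fun i hi => h i (by omega)), h n (by omega)]

theorem swS_eq_of_low {n v v' : ℕ} (h : ∀ i < n, v.testBit i = v'.testBit i) :
    swS s n v = swS s n v' := by
  induction n with
  | zero => rfl
  | succ n ih => rw [swS, swS, ih (fun i hi => h i (by omega)), h n (by omega)]

theorem evE_zero (n : ℕ) : evE e n 0 = 1 := by
  induction n with
  | zero => rfl
  | succ n ih => rw [evE, ih, Nat.zero_testBit]; simp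

theorem swS_zero (n : ℕ) : swS s n 0 = 1 := by
  induction n with
  | zero => rfl
  | succ n ih => rw [swS, ih, Nat.zero_testBit]; simp

theorem swS_high {n : ℕ} {w : ℕ} (h : w < 2 ^ n) : ∀ m, swS s (n + m) w = swS s n w := by
  intro m
  induction m with
  | zero => rfl
  | succ m ih =>
    show swS s (n + m) w * cond (w.testBit (n + m)) (s (n + m)) 1 = _
    rw [ih, Nat.testBit_lt_two_pow (lt_of_lt_of_le h (Nat.pow_le_pow_right (by norm_num) (by omega)))]
    simp

variable {e s} {ms : List (List ℕ)} {sq : List (ℕ × ℕ)} {cm : List (List (ℕ × ℕ))}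

theorem commute_evE (hr : Rels e s ms sq cm) {m : ℕ} (hm : m < 11) :
    ∀ n ≤ 11, ∀ v, Commute (e m) (evE e n v) := by
  intro n hn v
  induction n with
  | zero => exact Commute.one_right _
  | succ n ih =>
    refine (ih (by omega)).mul_right ?_
    cases v.testBit n
    · exact Commute.one_right _
    · exact hr.e_comm m hm n (by omega)

theorem evE_mul (hr : Rels e s ms sq cm) :
    ∀ n ≤ 11, ∀ v v', evE e n v * evE e n v' = evE e n (v ^^^ v') := by
  intro n hn v v'
  induction n with
  | zero => simp [evE]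
  | succ n ih =>
    have hb : (v ^^^ v').testBit n = (v.testBit n != v'.testBit n) := by
      rw [Nat.testBit_xor]
    have hc := commute_evE hr (m := n) (by omega) n (by omega) v'
    simp only [evE]
    rw [hb, ← ih (by omega)]
    cases v.testBit n <;> cases v'.testBit n <;>
      simp only [cond_true, cond_false, bne_self_eq_false, Bool.true_bne, Bool.false_bne,
        Bool.not_false, mul_one]
    · rw [mul_assoc]
    · rw [mul_assoc, hc.eq, ← mul_assoc]
    · rw [mul_assoc (evE e n v), ← mul_assoc (e n), hc.eq, mul_assoc (evE e n v'),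
        hr.e_sq n (by omega), mul_one]

theorem appV_lt (hr : Rels e s ms sq cm) {k : ℕ} (hk : k < 7) :
    ∀ n ≤ 11, ∀ v, appV (ms.getD k []) n v < 2 ^ 11 := by
  intro n hn v
  induction n with
  | zero => simp [appV_zero]
  | succ n ih =>
    refine Nat.xor_lt_two_pow (ih (by omega)) ?_
    cases v.testBit n
    · simp
    · exact (hr.bound k hk).1 n (by omega)

theorem s_mul_evE (hr : Rels e s ms sq cm) {k : ℕ} (hk : k < 7) :
    ∀ n ≤ 11, ∀ v, s k * evE e n v = evE e 11 (appV (ms.getD k []) n v) * s k := by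
  intro n hn v
  induction n with
  | zero => simp [evE, appV_zero, evE_zero]
  | succ n ih =>
    show s k * (evE e n v * cond (v.testBit n) (e n) 1) =
      evE e 11 (appV (ms.getD k []) n v ^^^ cond (v.testBit n) ((ms.getD k []).getD n 0) 0) * s k
    rw [← mul_assoc, ih (by omega), ← evE_mul hr 11 le_rfl]
    cases v.testBit n
    · simp [evE_zero]
    · simp only [cond_true]
      rw [mul_assoc, hr.act k hk n (by omega), ← mul_assoc]

theorem swS_mul_evE (hr : Rels e s ms sq cm) :
    ∀ n ≤ 7, ∀ w v, swS s n w * evE e 11 v = evE e 11 (actV ms n w v) * swS s n w := by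
  intro n hn w
  induction n with
  | zero => intro v; simp [swS, actV_zero]
  | succ n ih =>
    intro v
    simp only [swS, actV_succ]
    cases w.testBit n
    · simp only [cond_false, mul_one]
      exact ih (by omega) v
    · simp only [cond_true]
      rw [mul_assoc, s_mul_evE hr (by omega) 11 le_rfl, ← mul_assoc, ih (by omega), mul_assoc]

variable (e s)

/-- The span of the `e j` and the first `k` pc generators. -/
def pcSub (k : ℕ) : Subgroup G := Subgroup.closure (e '' Set.Iio 11 ∪ s '' Set.Iio k)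

theorem pcSub_mono {k l : ℕ} (h : k ≤ l) : pcSub e s k ≤ pcSub e s l :=
  Subgroup.closure_mono (Set.union_subset_union_right _ (Set.image_mono (Set.Iio_subset_Iio h)))

theorem e_mem {j : ℕ} (hj : j < 11) (k : ℕ) : e j ∈ pcSub e s k :=
  Subgroup.subset_closure (Or.inl ⟨j, hj, rfl⟩)

theorem s_mem {j k : ℕ} (hj : j < k) : s j ∈ pcSub e s k :=
  Subgroup.subset_closure (Or.inr ⟨j, hj, rfl⟩)

theorem evE_mem (k : ℕ) : ∀ n ≤ 11, ∀ v, evE e n v ∈ pcSub e s k := by
  intro n hn v
  induction n with
  | zero => exact one_mem _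
  | succ n ih =>
    refine mul_mem (ih (by omega)) ?_
    cases v.testBit n
    · exact one_mem _
    · exact e_mem e s (by omega) k

theorem swS_mem {k : ℕ} : ∀ n ≤ k, ∀ w, swS s n w ∈ pcSub e s k := by
  intro n hn w
  induction n with
  | zero => exact one_mem _
  | succ n ih =>
    refine mul_mem (ih (by omega)) ?_
    cases w.testBit n
    · exact one_mem _
    · exact s_mem e s (by omega)

variable {e s}

theorem swS_low_mem {k w : ℕ} (hk : k ≤ 7) (hw : w < 2 ^ k) : swS s 7 w ∈ pcSub e s k := by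
  obtain ⟨m, hm⟩ := Nat.exists_eq_add_of_le hk
  have h := swS_high s hw m
  rw [← hm] at h
  rw [h]
  exact swS_mem e s k le_rfl w

/-- Conjugation by `s k` maps the earlier span into itself. -/
theorem conj_pcSub_le (hr : Rels e s ms sq cm) {k : ℕ} (hk : k < 7) {x : G}
    (hx : x ∈ pcSub e s k) : s k * x * (s k)⁻¹ ∈ pcSub e s k := by
  induction hx using Subgroup.closure_induction with
  | mem x hx =>
    rcases hx with ⟨j, hj, rfl⟩ | ⟨j, hj, rfl⟩
    · rw [hr.act k hk j hj, mul_inv_cancel_right]
      exact evE_mem e s k 11 le_rfl _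
    · rw [hr.s_comm k hk j hj, mul_inv_cancel_right]
      exact mul_mem (evE_mem e s k 11 le_rfl _) (swS_low_mem hk.le ((hr.bound k hk).2.2.2 j hj).2)
  | one => simp
  | mul x y _ _ hx hy =>
    have := mul_mem hx hy
    have e1 : s k * x * (s k)⁻¹ * (s k * y * (s k)⁻¹) = s k * (x * y) * (s k)⁻¹ := by group
    rwa [e1] at this
  | inv x _ hx =>
    have := inv_mem hx
    have e1 : (s k * x * (s k)⁻¹)⁻¹ = s k * x⁻¹ * (s k)⁻¹ := by group
    rwa [e1] at this

theorem sq_mem (hr : Rels e s ms sq cm) {k : ℕ} (hk : k < 7) : s k * s k ∈ pcSub e s k := by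
  rw [hr.s_sq k hk]
  exact mul_mem (evE_mem e s k 11 le_rfl _) (swS_low_mem hk.le (hr.bound k hk).2.2.1)

/-- Conjugation by the inverse of `s k` does so too. -/
theorem conj_inv_pcSub_le (hr : Rels e s ms sq cm) {k : ℕ} (hk : k < 7) {x : G}
    (hx : x ∈ pcSub e s k) : (s k)⁻¹ * x * s k ∈ pcSub e s k := by
  have h := mul_mem (mul_mem (inv_mem (sq_mem hr hk)) (conj_pcSub_le hr hk hx)) (sq_mem hr hk)
  have e1 : (s k * s k)⁻¹ * (s k * x * (s k)⁻¹) * (s k * s k) = (s k)⁻¹ * x * s k := by group
  rwa [e1] at h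

theorem mem_pcSub_succ (hr : Rels e s ms sq cm) {k : ℕ} (hk : k < 7) {x : G}
    (hx : x ∈ pcSub e s (k + 1)) : x ∈ pcSub e s k ∨ x * (s k)⁻¹ ∈ pcSub e s k := by
  induction hx using Subgroup.closure_induction with
  | mem x hx =>
    rcases hx with ⟨j, hj, rfl⟩ | ⟨j, hj, rfl⟩
    · exact Or.inl (e_mem e s hj k)
    · rcases Nat.lt_succ_iff_lt_or_eq.1 (hj : j < k + 1) with h | h
      · exact Or.inl (s_mem e s h)
      · subst h
        exact Or.inr (by simp)
  | one => exact Or.inl (one_mem _)
  | mul x y _ _ hx hy =>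
    rcases hx with hx | hx <;> rcases hy with hy | hy
    · exact Or.inl (mul_mem hx hy)
    · exact Or.inr (by rw [mul_assoc]; exact mul_mem hx hy)
    · refine Or.inr ?_
      have := mul_mem hx (conj_pcSub_le hr hk hy)
      have e1 : x * (s k)⁻¹ * (s k * y * (s k)⁻¹) = x * y * (s k)⁻¹ := by group
      rwa [e1] at this
    · refine Or.inl ?_
      have := mul_mem (mul_mem hx (conj_pcSub_le hr hk hy)) (sq_mem hr hk)
      have e1 : x * (s k)⁻¹ * (s k * (y * (s k)⁻¹) * (s k)⁻¹) * (s k * s k) = x * y := by group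
      rwa [e1] at this
  | inv x _ hx =>
    rcases hx with hx | hx
    · exact Or.inl (inv_mem hx)
    · refine Or.inr ?_
      have h1 := conj_inv_pcSub_le hr hk (inv_mem hx)
      have := mul_mem h1 (inv_mem (sq_mem hr hk))
      have e1 : (s k)⁻¹ * (x * (s k)⁻¹)⁻¹ * s k * (s k * s k)⁻¹ = x⁻¹ * (s k)⁻¹ := by group
      rwa [e1] at this

theorem mem_pcSub_zero (hr : Rels e s ms sq cm) {x : G} (hx : x ∈ pcSub e s 0) :
    ∃ v < 2 ^ 11, x = evE e 11 v := by
  induction hx using Subgroup.closure_induction with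
  | mem x hx =>
    rcases hx with ⟨j, hj, rfl⟩ | ⟨j, hj, _⟩
    · refine ⟨2 ^ j, Nat.pow_lt_pow_right (by norm_num) hj, ?_⟩
      have h : ∀ n, n ≤ 11 → evE e n (2 ^ j) = if j < n then e j else 1 := by
        intro n hn
        induction n with
        | zero => simp [evE]
        | succ n ih =>
          rw [evE, ih (by omega), Nat.testBit_two_pow]
          rcases lt_trichotomy j n with h | h | h
          · simp [h, Nat.lt_succ_of_lt h, h.ne]
          · subst h; simp
          · simp [h.ne', Nat.not_lt.2 h.le, show ¬ j < n + 1 by omega]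
      rw [h 11 le_rfl, if_pos (show j < 11 from hj)]
    · exact absurd hj (by simp)
  | one => exact ⟨0, by norm_num, (evE_zero e 11).symm⟩
  | mul x y _ _ hx hy =>
    obtain ⟨v, hv, rfl⟩ := hx
    obtain ⟨v', hv', rfl⟩ := hy
    exact ⟨v ^^^ v', Nat.xor_lt_two_pow hv hv', evE_mul hr 11 le_rfl v v'⟩
  | inv x _ hx =>
    obtain ⟨v, hv, rfl⟩ := hx
    refine ⟨v, hv, ?_⟩
    rw [inv_eq_iff_mul_eq_one, evE_mul hr 11 le_rfl, Nat.xor_self, evE_zero]

theorem mem_pcSub (hr : Rels e s ms sq cm) : ∀ k ≤ 7, ∀ {x : G}, x ∈ pcSub e s k →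
    ∃ v < 2 ^ 11, ∃ w < 2 ^ k, x = evE e 11 v * swS s k w := by
  intro k hk
  induction k with
  | zero =>
    intro x hx
    obtain ⟨v, hv, rfl⟩ := mem_pcSub_zero hr hx
    exact ⟨v, hv, 0, by norm_num, by simp [swS]⟩
  | succ k ih =>
    intro x hx
    rcases mem_pcSub_succ hr (by omega) hx with h | h
    · obtain ⟨v, hv, w, hw, rfl⟩ := ih (by omega) h
      refine ⟨v, hv, w, hw.trans (Nat.pow_lt_pow_right (by norm_num) k.lt_succ_self), ?_⟩
      rw [swS, Nat.testBit_lt_two_pow hw]
      simp
    · obtain ⟨v, hv, w, hw, hx'⟩ := ih (by omega) h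
      refine ⟨v, hv, 2 ^ k + w, by rw [pow_succ]; omega, ?_⟩
      rw [swS, Nat.testBit_two_pow_add_eq, Nat.testBit_lt_two_pow hw]
      simp only [Bool.not_false, cond_true]
      rw [swS_eq_of_low s (v' := w) (fun i hi => Nat.testBit_two_pow_add_gt hi w), ← mul_assoc,
        ← hx', inv_mul_cancel_right]

theorem mem_pcSub_seven (hr : Rels e s ms sq cm) {x : G} (hx : x ∈ pcSub e s 7) :
    ∃ v < 2 ^ 11, ∃ w < 2 ^ 7, x = evE e 11 v * swS s 7 w :=
  mem_pcSub hr 7 le_rfl hx

theorem actV_lt (hr : Rels e s ms sq cm) : ∀ n ≤ 7, ∀ w v, v < 2 ^ 11 → actV ms n w v < 2 ^ 11 := by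
  intro n hn w
  induction n with
  | zero => intro v hv; exact hv
  | succ n ih =>
    intro v hv
    simp only [actV_succ]
    refine ih (by omega) _ ?_
    cases w.testBit n
    · exact hv
    · exact appV_lt hr (by omega) 11 le_rfl v

end

end Cfsg.Agent.FiSylow
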