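import Cfsg.Agent.FiSylow.Algebra

/-!
# Elementary abelian subgroups of the 2-group
-/

set_option autoImplicit false
set_option maxRecDepth 10000

namespace Cfsg.Agent.FiSylow

/-- Structural search for a clique of size `k`: `true` if there is none. -/
def noClique (r : ℕ → ℕ → Bool) : ℕ → List ℕ → Bool
  | 0, _ => false
  | k + 1, l => List.rec (motive := fun _ => Bool) true
      (fun x xs ih => (Nat.ble (xs.length + 1) k || noClique r k (xs.filter (r x))) && ih) l

theorem noClique_sound (r : ℕ → ℕ → Bool) : ∀ k (l : List ℕ), noClique r k l = true →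
    ∀ T : List ℕ, T.Sublist l → T.Pairwise (fun a b => r a b = true) → T.length < k := by
  intro k
  induction k with
  | zero => intro l h; simp [noClique] at h
  | succ k ih =>
    intro l
    induction l with
    | nil => intro _ T hT _; simp [List.eq_nil_of_sublist_nil hT]
    | cons x xs ih' =>
      intro h T hT hp
      have h' : ((Nat.ble (xs.length + 1) k || noClique r k (xs.filter (r x))) &&
          noClique r (k + 1) xs) = true := h
      rw [Bool.and_eq_true, Bool.or_eq_true] at h'
      rcases List.sublist_cons_iff.1 hT with hT' | ⟨T', rfl, hT'⟩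
      · exact ih' h'.2 T hT' hp
      · rw [List.pairwise_cons] at hp
        rw [List.length_cons, Nat.succ_lt_succ_iff]
        rcases h'.1 with h1 | h1
        · have := hT'.length_le
          have := Nat.le_of_ble_eq_true h1
          omega
        · refine ih _ h1 T' ?_ hp.2
          have := hT'.filter (r x)
          rwa [List.filter_eq_self.2 hp.1] at this

section

variable (ms : List (List ℕ))

/-- The matrix of `w` read off the table. -/
noncomputable def rowAct (rows : List (List ℕ)) (w v : ℕ) : ℕ := appV (rows.getD w []) 11 v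

/-- The matrix of `w` is an involution or trivial. -/
noncomputable def goodR (rows : List (List ℕ)) (w : ℕ) : Bool :=
  (List.range 11).all fun j =>
    Nat.beq (rowAct rows w ((rows.getD w []).getD j 0)) (2 ^ j)

/-- The matrices of `a` and `b` commute. -/
noncomputable def comR (rows : List (List ℕ)) (a b : ℕ) : Bool :=
  (List.range 11).all fun j =>
    Nat.beq (rowAct rows a ((rows.getD b []).getD j 0)) (rowAct rows b ((rows.getD a []).getD j 0))

/-- All vectors of the list are fixed. -/
noncomputable def fixesR (rows : List (List ℕ)) (w : ℕ) (b : List ℕ) : Bool :=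
  b.all fun v => Nat.beq (rowAct rows w v) v

/-- The checks for one candidate: fixed vectors `b` and a complement `X`. -/
noncomputable def invOK (rows : List (List ℕ)) (ws : List ℕ) (p : ℕ × List ℕ × List ℕ) : Bool :=
  ((p.2.1.all fun v => Nat.blt v 2048) && (p.2.2.all fun v => Nat.blt v 2048)) &&
    (fixesR rows p.1 p.2.1 &&
      (((List.range 16).all fun c => Nat.beq c 0 ||
          !(Nat.beq (rowAct rows p.1 (appV p.2.2 4 c)) (appV p.2.2 4 c))) &&
        Nat.ble (ws.filter fun w' => fixesR rows w' p.2.1).length 7))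

/-- The finite facts about the matrices. -/
structure Facts (rows : List (List ℕ)) (fb : List (ℕ × List ℕ × List ℕ)) (cmask : ℕ) : Prop where
  rows_eq : ∀ w < 128, ∀ j < 11, actV ms 7 w (2 ^ j) = (rows.getD w []).getD j 0
  faithful : ((List.range 128).map fun w => rows.getD w []).Nodup
  row_len : ∀ w < 128, (rows.getD w []).length = 11
  covered : ∀ w < 128, w ≠ 0 → goodR rows w = true → w ∈ fb.map Prod.fst
  checked : ∀ p ∈ fb, invOK rows (fb.map Prod.fst) p = true
  mask : ∀ a ∈ fb.map Prod.fst, ∀ b ∈ fb.map Prod.fst,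
    cmask.testBit (128 * a + b) = true ∨ comR rows a b = false
  clique : noClique (fun a b => cmask.testBit (128 * a + b)) 16 (fb.map Prod.fst) = true

variable {ms} {G : Type*} [Group G] {e s : ℕ → G} {sq : List (ℕ × ℕ)} {cm : List (List (ℕ × ℕ))}
  {rows : List (List ℕ)} {fb : List (ℕ × List ℕ × List ℕ)} {cmask : ℕ}

theorem act_row (hf : Facts ms rows fb cmask) {w v : ℕ} (hw : w < 128) (hv : v < 2 ^ 11) :
    actV ms 7 w v = rowAct rows w v :=
  actV_eq_appV ms w _ (hf.rows_eq w hw) 11 le_rfl v hv

theorem appV_lt_list (X : List ℕ) (h : ∀ x ∈ X, x < 2 ^ 11) :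
    ∀ n c, appV X n c < 2 ^ 11 := by
  intro n c
  induction n with
  | zero => simp [appV_zero]
  | succ n ih =>
    rw [appV_succ]
    refine Nat.xor_lt_two_pow ih ?_
    cases c.testBit n
    · simp
    · simp only [cond_true]
      by_cases hn : n < X.length
      · rw [List.getD_eq_getElem _ _ hn]
        exact h _ (List.getElem_mem hn)
      · rw [List.getD_eq_default _ _ (by omega)]
        norm_num

theorem elt_mul_evE (hr : Rels e s ms sq cm) (v w u : ℕ) :
    evE e 11 v * swS s 7 w * evE e 11 u = evE e 11 (actV ms 7 w u) * (evE e 11 v * swS s 7 w) := by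
  rw [mul_assoc, swS_mul_evE hr 7 le_rfl, ← mul_assoc, evE_mul hr 11 le_rfl, Nat.xor_comm,
    ← evE_mul hr 11 le_rfl, mul_assoc]

/-- The coordinates are unique. -/
def EInj (e : ℕ → G) : Prop :=
  ∀ v v', v < 2 ^ 11 → v' < 2 ^ 11 → evE e 11 v = evE e 11 v' → v = v'

theorem act_eq_of_elt_eq (hr : Rels e s ms sq cm) (hI : EInj e)
    {v v' w w' u : ℕ} (hu : u < 2 ^ 11)
    (h : evE e 11 v * swS s 7 w = evE e 11 v' * swS s 7 w') : actV ms 7 w u = actV ms 7 w' u := by
  have h1 := elt_mul_evE hr v w u
  rw [h, elt_mul_evE hr v' w' u] at h1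
  exact (hI _ _ (actV_lt hr 7 le_rfl _ _ hu) (actV_lt hr 7 le_rfl _ _ hu)
    (mul_right_cancel h1)).symm

theorem two_pow_lt {j : ℕ} (hj : j < 11) : 2 ^ j < 2 ^ 11 := Nat.pow_lt_pow_right (by norm_num) hj

/-- The elements are uniquely of the form `evE v * swS w`. -/
theorem elt_inj (hr : Rels e s ms sq cm) (hf : Facts ms rows fb cmask) (hI : EInj e)
    {v v' w w' : ℕ} (hv : v < 2 ^ 11) (hv' : v' < 2 ^ 11) (hw : w < 128) (hw' : w' < 128)
    (h : evE e 11 v * swS s 7 w = evE e 11 v' * swS s 7 w') : v = v' ∧ w = w' := by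
  have hww : w = w' := by
    refine List.inj_on_of_nodup_map hf.faithful (List.mem_range.2 hw) (List.mem_range.2 hw') ?_
    refine List.ext_getElem (by rw [hf.row_len w hw, hf.row_len w' hw']) fun j h1 h2 => ?_
    have hj : j < 11 := hf.row_len w hw ▸ h1
    rw [← List.getD_eq_getElem _ 0 h1, ← List.getD_eq_getElem _ 0 h2, ← hf.rows_eq w hw j hj,
      ← hf.rows_eq w' hw' j hj]
    exact act_eq_of_elt_eq hr hI (two_pow_lt hj) h
  subst hww
  exact ⟨hI _ _ hv hv' (mul_right_cancel h), rfl⟩

/-- The order of the 2-group. -/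
theorem card_pcSub_seven (hr : Rels e s ms sq cm) (hf : Facts ms rows fb cmask)
    (hI : EInj e) : Nat.card (pcSub e s 7) = 2 ^ 18 := by
  let F : Fin (2 ^ 11) × Fin (2 ^ 7) → pcSub e s 7 := fun p =>
    ⟨evE e 11 p.1 * swS s 7 p.2, mul_mem (evE_mem e s 7 11 le_rfl _) (swS_mem e s 7 le_rfl _)⟩
  have hF : Function.Bijective F := by
    refine ⟨fun p q h => ?_, fun x => ?_⟩
    · obtain ⟨h1, h2⟩ := elt_inj hr hf hI p.1.2 q.1.2 p.2.2 q.2.2 (congrArg Subtype.val h)
      exact Prod.ext (Fin.ext h1) (Fin.ext h2)
    · obtain ⟨v, hv, w, hw, hx⟩ := mem_pcSub_seven hr x.2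
      exact ⟨(⟨v, hv⟩, ⟨w, hw⟩), Subtype.ext hx.symm⟩
  rw [← Nat.card_congr (Equiv.ofBijective F hF), Nat.card_prod, Nat.card_fin, Nat.card_fin]
  norm_num

/-- The order of the normal elementary abelian subgroup. -/
theorem card_pcSub_zero (hr : Rels e s ms sq cm) (hf : Facts ms rows fb cmask)
    (hI : EInj e) : Nat.card (pcSub e s 0) = 2 ^ 11 := by
  let F : Fin (2 ^ 11) → pcSub e s 0 := fun p => ⟨evE e 11 p, evE_mem e s 0 11 le_rfl _⟩
  have hF : Function.Bijective F := by
    refine ⟨fun p q h => Fin.ext (hI _ _ p.2 q.2 (congrArg Subtype.val h)), fun x => ?_⟩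
    obtain ⟨v, hv, hx⟩ := mem_pcSub_zero hr x.2
    exact ⟨⟨v, hv⟩, Subtype.ext hx.symm⟩
  rw [← Nat.card_congr (Equiv.ofBijective F hF), Nat.card_fin]

/-- **The bound.** -/
theorem card_elementary_le (hr : Rels e s ms sq cm) (hf : Facts ms rows fb cmask)
    (hI : EInj e) {A : Subgroup G} (hA : A ≤ pcSub e s 7)
    (hc : ∀ x ∈ A, ∀ y ∈ A, x * y = y * x) (h2 : ∀ x ∈ A, x * x = 1) :
    Nat.card A ≤ 2 ^ 11 ∧ (Nat.card A = 2 ^ 11 → A = pcSub e s 0) := by
  classical
  choose v hv w hw hx using fun x : A => mem_pcSub_seven hr (hA x.2)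
  let V : Finset ℕ := (Finset.range (2 ^ 11)).filter fun u => evE e 11 u ∈ A
  let W : Finset ℕ := (Finset.range 128).filter fun u => ∃ x : A, w x = u
  -- facts about one element
  have hcom : ∀ (x y : A) (u : ℕ), u < 2 ^ 11 →
      actV ms 7 (w x) (actV ms 7 (w y) u) = actV ms 7 (w y) (actV ms 7 (w x) u) := by
    intro x y u hu
    have h1 : ((x : G) * y) * evE e 11 u = evE e 11 (actV ms 7 (w x) (actV ms 7 (w y) u)) * ((x : G) * y) := by
      rw [mul_assoc, hx y, elt_mul_evE hr, ← hx y, ← mul_assoc, hx x, elt_mul_evE hr, ← hx x, mul_assoc]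
    have h3 : ((y : G) * x) * evE e 11 u = evE e 11 (actV ms 7 (w y) (actV ms 7 (w x) u)) * ((y : G) * x) := by
      rw [mul_assoc, hx x, elt_mul_evE hr, ← hx x, ← mul_assoc, hx y, elt_mul_evE hr, ← hx y, mul_assoc]
    rw [hc _ x.2 _ y.2, h3] at h1
    exact (hI _ _ (actV_lt hr 7 le_rfl _ _ (actV_lt hr 7 le_rfl _ _ hu))
      (actV_lt hr 7 le_rfl _ _ (actV_lt hr 7 le_rfl _ _ hu)) (mul_right_cancel h1)).symm
  have hinv : ∀ (x : A) (u : ℕ), u < 2 ^ 11 → actV ms 7 (w x) (actV ms 7 (w x) u) = u := by
    intro x u hu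
    have h1 : ((x : G) * x) * evE e 11 u = evE e 11 (actV ms 7 (w x) (actV ms 7 (w x) u)) * ((x : G) * x) := by
      rw [mul_assoc, hx x, elt_mul_evE hr, ← hx x, ← mul_assoc, hx x, elt_mul_evE hr, ← hx x, mul_assoc]
    rw [h2 _ x.2, one_mul, mul_one] at h1
    exact (hI _ _ hu (actV_lt hr 7 le_rfl _ _ (actV_lt hr 7 le_rfl _ _ hu)) h1).symm
  have hfix : ∀ (x : A) (u : ℕ), u ∈ V → actV ms 7 (w x) u = u := by
    intro x u hu
    simp only [V, Finset.mem_filter, Finset.mem_range] at hu
    have h1 : (x : G) * evE e 11 u = evE e 11 (actV ms 7 (w x) u) * x := by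
      rw [hx x, elt_mul_evE hr]
    rw [hc _ x.2 _ hu.2] at h1
    exact (hI _ _ hu.1 (actV_lt hr 7 le_rfl _ _ hu.1) (mul_right_cancel h1)).symm
  have hrow_lt : ∀ (x : A) (j : ℕ), j < 11 → (rows.getD (w x) []).getD j 0 < 2 ^ 11 := by
    intro x j hj
    rw [← hf.rows_eq _ (hw x) j hj]
    exact actV_lt hr 7 le_rfl _ _ (two_pow_lt hj)
  have hgood : ∀ x : A, w x ≠ 0 → w x ∈ fb.map Prod.fst := by
    intro x h0
    refine hf.covered _ (hw x) h0 ?_
    simp only [goodR, List.all_eq_true, List.mem_range]
    intro j hj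
    rw [← act_row hf (hw x) (hrow_lt x j hj), ← hf.rows_eq _ (hw x) j hj, hinv x _ (two_pow_lt hj)]
    exact Nat.beq_refl _
  have hcomW : ∀ x y : A, comR rows (w x) (w y) = true := by
    intro x y
    simp only [comR, List.all_eq_true, List.mem_range]
    intro j hj
    rw [← act_row hf (hw x) (hrow_lt y j hj), ← act_row hf (hw y) (hrow_lt x j hj),
      ← hf.rows_eq _ (hw y) j hj, ← hf.rows_eq _ (hw x) j hj, hcom x y _ (two_pow_lt hj)]
    exact Nat.beq_refl _
  -- the count
  choose! x₀ hx₀ using fun u (hu : u ∈ W) => (Finset.mem_filter.1 hu).2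
  have hWmem : ∀ x : A, w x ∈ W := fun x =>
    Finset.mem_filter.2 ⟨Finset.mem_range.2 (hw x), x, rfl⟩
  have hVmem : ∀ x : A, v x ^^^ v (x₀ (w x)) ∈ V := by
    intro x
    refine Finset.mem_filter.2 ⟨Finset.mem_range.2 (Nat.xor_lt_two_pow (hv _) (hv _)), ?_⟩
    have := mul_mem x.2 (inv_mem (x₀ (w x)).2)
    rw [hx x, hx (x₀ (w x)), hx₀ _ (hWmem x)] at this
    have e1 : ∀ a b c : G, a * c * (b * c)⁻¹ = a * b⁻¹ := fun a b c => by group
    rw [e1] at this
    have e2 : (evE e 11 (v (x₀ (w x))))⁻¹ = evE e 11 (v (x₀ (w x))) := by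
      rw [inv_eq_iff_mul_eq_one, evE_mul hr 11 le_rfl, Nat.xor_self, evE_zero]
    rwa [e2, evE_mul hr 11 le_rfl] at this
  have hcount : Nat.card A ≤ W.card * V.card := by
    refine le_trans (Nat.card_le_card_of_injective
      (fun x : A => ((⟨w x, hWmem x⟩, ⟨_, hVmem x⟩) : W × V)) ?_) ?_
    · intro x y h
      simp only [Prod.mk.injEq, Subtype.mk.injEq] at h
      obtain ⟨h1, h3⟩ := h
      rw [h1] at h3
      have h4 : v x = v y := by
        have := congrArg (· ^^^ v (x₀ (w y))) h3
        simpa [Nat.xor_assoc, Nat.xor_self] using this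
      exact Subtype.ext (by rw [hx x, hx y, h1, h4])
    · rw [Nat.card_prod]; simp
  have hVdvd : V.card ∣ 2 ^ 11 := by
    have h : V.card = Nat.card (A ⊓ pcSub e s 0 : Subgroup G) := by
      let F : V → (A ⊓ pcSub e s 0 : Subgroup G) := fun u =>
        ⟨evE e 11 u, (Finset.mem_filter.1 u.2).2, evE_mem e s 0 11 le_rfl _⟩
      have hF : Function.Bijective F := by
        refine ⟨fun p q h => Subtype.ext (hI _ _ (Finset.mem_range.1 (Finset.mem_filter.1 p.2).1)
          (Finset.mem_range.1 (Finset.mem_filter.1 q.2).1) (congrArg Subtype.val h)), ?_⟩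
        rintro ⟨g, hgA, hgE⟩
        obtain ⟨u, hu, rfl⟩ := mem_pcSub_zero hr hgE
        exact ⟨⟨u, Finset.mem_filter.2 ⟨Finset.mem_range.2 hu, hgA⟩⟩, rfl⟩
      rw [← Nat.card_congr (Equiv.ofBijective F hF)]; simp
    rw [h, ← card_pcSub_zero hr hf hI]
    exact Subgroup.card_dvd_of_le inf_le_right
  by_cases hW : ∀ x : A, w x = 0
  · -- inside the normal subgroup
    have hsub : A ≤ pcSub e s 0 := by
      intro g hg
      have := hx ⟨g, hg⟩
      rw [hW, swS_zero, mul_one] at this
      rw [show g = _ from this]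
      exact evE_mem e s 0 11 le_rfl _
    have hfin : Finite (pcSub e s 0) :=
      Nat.finite_of_card_ne_zero (by rw [card_pcSub_zero hr hf hI]; norm_num)
    refine ⟨card_pcSub_zero hr hf hI ▸
      Nat.card_le_card_of_injective _ (Subgroup.inclusion_injective hsub), fun h => ?_⟩
    exact Subgroup.eq_of_le_of_card_ge hsub (by rw [h, card_pcSub_zero hr hf hI])
  · obtain ⟨x, hx0⟩ := not_forall.1 hW
    obtain ⟨⟨w₁, b, X⟩, hp, hp1⟩ := List.mem_map.1 (hgood x hx0)
    simp only at hp1
    subst hp1
    have hok := hf.checked _ hp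
    simp only [invOK, Bool.and_eq_true, List.all_eq_true] at hok
    obtain ⟨⟨hblt, hXlt⟩, hb, hXfree, hcnt⟩ := hok
    have hXlt' : ∀ t ∈ X, t < 2 ^ 11 := fun t ht => Nat.le_of_ble_eq_true (hXlt t ht)
    let F : Finset ℕ := (Finset.range (2 ^ 11)).filter fun u => actV ms 7 (w x) u = u
    have hVsub : V ⊆ F := fun u hu => Finset.mem_filter.2
      ⟨(Finset.mem_filter.1 hu).1, hfix x u hu⟩
    have hF128 : F.card ≤ 128 := by
      have hinjF : (F ×ˢ Finset.range 16).card ≤ (Finset.range (2 ^ 11)).card := by
        refine Finset.card_le_card_of_injOn (fun q => q.1 ^^^ appV X 4 q.2) ?_ ?_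
        · intro q hq
          simp only [Finset.coe_product, Set.mem_prod, Finset.mem_coe] at hq
          exact Finset.mem_coe.2 (Finset.mem_range.2 (Nat.xor_lt_two_pow
            (Finset.mem_range.1 (Finset.mem_filter.1 hq.1).1) (appV_lt_list X hXlt' 4 q.2)))
        · rintro ⟨f, c⟩ hq ⟨f', c'⟩ hq' h
          simp only [Finset.coe_product, Set.mem_prod, Finset.mem_coe] at hq hq'
          simp only at h
          have hc16 : c ^^^ c' < 2 ^ 4 :=
            Nat.xor_lt_two_pow (Finset.mem_range.1 hq.2) (Finset.mem_range.1 hq'.2)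
          have hkey : appV X 4 (c ^^^ c') = f ^^^ f' := by
            rw [appV_xor]
            refine Nat.eq_of_testBit_eq fun i => ?_
            have h' := congrArg (fun t => t.testBit i) h
            simp only [Nat.testBit_xor] at h' ⊢
            revert h'
            cases f.testBit i <;> cases f'.testBit i <;> cases (appV X 4 c).testBit i <;>
              cases (appV X 4 c').testBit i <;> simp
          have hc : c ^^^ c' = 0 := by
            by_contra hne
            have hx' := hXfree (c ^^^ c') (List.mem_range.2 hc16)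
            rw [Bool.or_eq_true, Bool.not_eq_true', hkey] at hx'
            rcases hx' with hx' | hx'
            · exact hne (Nat.eq_of_beq_eq_true hx')
            · have hlt : f ^^^ f' < 2 ^ 11 := hkey ▸ appV_lt_list X hXlt' 4 _
              rw [← act_row hf (hw x) hlt, actV_xor, (Finset.mem_filter.1 hq.1).2,
                (Finset.mem_filter.1 hq'.1).2, Nat.beq_refl] at hx'
              exact Bool.noConfusion hx'
          have hcc : c = c' := Nat.xor_eq_zero_iff.1 hc
          subst hcc
          refine Prod.ext (Nat.eq_of_testBit_eq fun i => ?_) rfl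
          have h' := congrArg (fun t => t.testBit i) h
          simp only [Nat.testBit_xor] at h'
          revert h'
          cases f.testBit i <;> cases f'.testBit i <;> cases (appV X 4 c).testBit i <;> simp
      rw [Finset.card_product, Finset.card_range, Finset.card_range] at hinjF
      norm_num at hinjF
      omega
    have hV128 : V.card ≤ 128 := le_trans (Finset.card_le_card hVsub) hF128
    have key : W.card * V.card ≤ 1024 := by
      by_cases hV : V.card = 128
      · -- all fix the same space
        have hVeq : V = F := Finset.eq_of_subset_of_card_le hVsub (by omega)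
        have hWsub : W.erase 0 ⊆ ((fb.map Prod.fst).filter fun w' => fixesR rows w' b).toFinset := by
          intro u hu
          obtain ⟨hu0, huW⟩ := Finset.mem_erase.1 hu
          have hu' := hx₀ u huW
          simp only [List.mem_toFinset, List.mem_filter]
          refine ⟨hu' ▸ hgood _ (hu'.symm ▸ hu0), ?_⟩
          simp only [fixesR, List.all_eq_true]
          intro t ht
          have htlt : t < 2 ^ 11 := Nat.le_of_ble_eq_true (hblt t ht)
          have ht' : t ∈ V := by
            rw [hVeq]
            refine Finset.mem_filter.2 ⟨Finset.mem_range.2 htlt, ?_⟩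
            simp only [fixesR, List.all_eq_true] at hb
            rw [act_row hf (hw x) htlt]
            exact Nat.eq_of_beq_eq_true (hb t ht)
          rw [← hu', ← act_row hf (hw _) htlt, hfix _ t ht']
          exact Nat.beq_refl _
        have := le_trans (Finset.card_le_card hWsub)
          (le_trans (List.toFinset_card_le _) (Nat.le_of_ble_eq_true hcnt))
        have := Finset.pred_card_le_card_erase (a := 0) (s := W)
        have : W.card ≤ 8 := by omega
        calc W.card * V.card ≤ 8 * 128 := Nat.mul_le_mul this hV.le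
          _ = 1024 := by norm_num
      · have hV64 : V.card ≤ 64 := by
          obtain ⟨i, -, hi⟩ := (Nat.dvd_prime_pow Nat.prime_two).1 hVdvd
          have : i < 7 := by
            refine (Nat.pow_lt_pow_iff_right (le_refl 2)).1 ?_
            rw [← hi]; norm_num; omega
          rw [hi]
          exact le_trans (Nat.pow_le_pow_right (by norm_num) (Nat.lt_succ_iff.1 this)) (by norm_num)
        have hW16 : W.card ≤ 16 := by
          have h := noClique_sound _ _ _ hf.clique ((fb.map Prod.fst).filter fun u => decide (u ∈ W))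
            List.filter_sublist ?_
          · have hsub : W.erase 0 ⊆ ((fb.map Prod.fst).filter fun u => decide (u ∈ W)).toFinset := by
              intro u hu
              obtain ⟨hu0, huW⟩ := Finset.mem_erase.1 hu
              simp only [List.mem_toFinset, List.mem_filter, decide_eq_true_eq]
              exact ⟨hx₀ u huW ▸ hgood _ ((hx₀ u huW).symm ▸ hu0), huW⟩
            have := le_trans (Finset.card_le_card hsub) (List.toFinset_card_le _)
            have := Finset.pred_card_le_card_erase (a := 0) (s := W)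
            omega
          · refine List.pairwise_iff_forall_sublist.2 fun {a b} hab => ?_
            have ha := hab.subset (List.mem_cons_self : a ∈ [a, b])
            have hb' := hab.subset (List.mem_cons_of_mem a (List.mem_cons_self : b ∈ [b]))
            simp only [List.mem_filter, decide_eq_true_eq] at ha hb'
            rcases hf.mask a ha.1 b hb'.1 with h' | h'
            · exact h'
            · rw [← hx₀ a ha.2, ← hx₀ b hb'.2, hcomW] at h'
              exact Bool.noConfusion h' 
        calc W.card * V.card ≤ 16 * 64 := Nat.mul_le_mul hW16 hV64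
          _ = 1024 := by norm_num
    exact ⟨by omega, fun h => by omega⟩

end

end Cfsg.Agent.FiSylow
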