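import Cfsg.Agent.FiSylow.Bound
import Cfsg.Agent.FiSylow.Data

/-! The finite facts about the seven matrices. -/

set_option autoImplicit false
set_option maxRecDepth 100000
set_option Elab.async false

namespace Cfsg.Agent.FiSylow

theorem facts_rows0 : ((List.range 64).all fun w => (List.range 11).all fun j =>
    Nat.beq (actV mats 7 w (2 ^ j)) ((rowsT.getD w []).getD j 0)) = true := by
  decide +kernel

theorem facts_rows1 : ((List.range 64).all fun w => (List.range 11).all fun j =>
    Nat.beq (actV mats 7 (64 + w) (2 ^ j)) ((rowsT.getD (64 + w) []).getD j 0)) = true := by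
  decide +kernel

/-- Code of a row, to compare rows quickly. -/
noncomputable def rowCode (r : List ℕ) : ℕ :=
  List.rec (motive := fun _ => ℕ) 1 (fun x _ ih => Nat.add (Nat.mul ih 4096) x) r

theorem facts_faithful : ((List.range 128).map fun w => rowCode (rowsT.getD w [])).Nodup := by
  decide +kernel

theorem facts_len : ((List.range 128).all fun w => Nat.beq (rowsT.getD w []).length 11) = true := by
  decide +kernel

theorem facts_covered : ((List.range 128).all fun w =>
    Nat.beq w 0 || (!(goodR rowsT w) || (fbT.map Prod.fst).any (Nat.beq w))) = true := by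
  decide +kernel

theorem facts_checked : fbT.all (invOK rowsT (fbT.map Prod.fst)) = true := by decide +kernel

theorem facts_mask : ((fbT.map Prod.fst).all fun a => (fbT.map Prod.fst).all fun b =>
    comT.testBit (128 * a + b) || !(comR rowsT a b)) = true := by
  decide +kernel

theorem facts_clique :
    noClique (fun a b => comT.testBit (128 * a + b)) 16 (fbT.map Prod.fst) = true := by
  decide +kernel

theorem facts : Facts mats rowsT fbT comT where
  rows_eq w hw j hj := by
    by_cases h : w < 64
    · exact Nat.eq_of_beq_eq_true
        (List.all_eq_true.1 (List.all_eq_true.1 facts_rows0 w (List.mem_range.2 h)) j (List.mem_range.2 hj))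
    · have h' := Nat.eq_of_beq_eq_true (List.all_eq_true.1
        (List.all_eq_true.1 facts_rows1 (w - 64) (List.mem_range.2 (by omega))) j (List.mem_range.2 hj))
      rwa [show 64 + (w - 64) = w by omega] at h'
  faithful := by
    have h := facts_faithful
    rw [show (fun w => rowCode (rowsT.getD w [])) = rowCode ∘ (fun w => rowsT.getD w []) from rfl,
      ← List.map_map] at h
    exact h.of_map _
  row_len w hw := Nat.eq_of_beq_eq_true (List.all_eq_true.1 facts_len w (List.mem_range.2 hw))
  covered w hw h0 hg := by
    have h := List.all_eq_true.1 facts_covered w (List.mem_range.2 hw)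
    rw [Bool.or_eq_true, Bool.or_eq_true, hg] at h
    rcases h with h | h | h
    · exact absurd (Nat.eq_of_beq_eq_true h) h0
    · exact absurd h (by decide)
    · obtain ⟨z, hz, hz'⟩ := List.any_eq_true.1 h
      exact Nat.eq_of_beq_eq_true hz' ▸ hz
  checked := List.all_eq_true.1 facts_checked
  mask a ha b hb := by
    have h := List.all_eq_true.1 (List.all_eq_true.1 facts_mask a ha) b hb
    rw [Bool.or_eq_true, Bool.not_eq_true'] at h
    exact h
  clique := facts_clique

end Cfsg.Agent.FiSylow
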