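import Cfsg.Agent.CosetEnum.Chain

/-!
# A full chain has trivial stabilizer of its base points
-/

set_option autoImplicit false

namespace Cfsg.Agent.FiSylow

open Cfsg.Agent.CosetCert Cfsg.Agent.CosetEnum

/-- All base points of a chain, on top of `prev`. -/
def allBases : List ℕ → List Level → List ℕ
  | prev, [] => prev
  | prev, L :: Ls => allBases (L.base :: prev) Ls

/-- **The lower bound.** -/
theorem chainProd_mul_le {N : ℕ} (T : ℕ → ℕ → ℕ) (letters : List ℕ) (σ : ℕ → Equiv.Perm (Fin N))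
    (hσ : ∀ l ∈ letters, ∀ i, (σ l i : ℕ) = T l i) (R : Subgroup (Equiv.Perm (Fin N)))
    (hR : ∀ l ∈ letters, σ l ∈ R) :
    ∀ (Ls : List Level) (prev : List ℕ), ChainValid N T letters prev Ls →
      chainProd Ls * Nat.card {τ : Equiv.Perm (Fin N) // τ ∈ R ∧ ∀ i : Fin N, (i : ℕ) ∈ allBases prev Ls → τ i = i} ≤
        Nat.card {τ : Equiv.Perm (Fin N) // τ ∈ R ∧ ∀ i : Fin N, (i : ℕ) ∈ prev → τ i = i} := by
  intro Ls
  induction Ls with
  | nil =>
    intro prev _
    simp [chainProd, allBases]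
  | cons L Ls ih =>
    intro prev hv
    obtain ⟨hg, hok, hrest⟩ := hv
    by_cases hs : L.size = 0
    · simp [chainProd, hs]
    have hlt : ∀ r < L.size, L.ord.get 32 r < N := fun r hr => by
      have h := hok r hr
      rw [Level.ok, Bool.and_eq_true] at h
      exact Nat.le_of_ble_eq_true h.1
    let pt : Fin L.size → Fin N := fun r => ⟨_, hlt r r.2⟩
    have hpt0 : L.ord.get 32 0 = L.base := by
      have h := hok 0 (Nat.pos_of_ne_zero hs)
      simp only [Level.ok, Bool.and_eq_true] at h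
      exact Nat.eq_of_beq_eq_true h.2.2
    have htr : ∀ (r : ℕ) (hr : r < L.size), ∃ τ : Equiv.Perm (Fin N),
        τ ∈ R ∧ (∀ i : Fin N, (i : ℕ) ∈ prev → τ i = i) ∧
          τ (pt ⟨0, Nat.pos_of_ne_zero hs⟩) = pt ⟨r, hr⟩ := by
      intro r
      induction r using Nat.strong_induction_on with
      | _ r ih' =>
        intro hr
        by_cases hr0 : r = 0
        · subst hr0
          exact ⟨1, R.one_mem, fun i _ => rfl, rfl⟩
        have h := hok r hr
        simp only [Level.ok, Bool.and_eq_true] at h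
        have hb : Nat.beq r 0 = false := by
          cases h' : Nat.beq r 0
          · rfl
          · exact absurd (Nat.eq_of_beq_eq_true h') hr0
        have h3 := h.2.2
        rw [hb, cond_false] at h3
        simp only [Bool.and_eq_true] at h3
        obtain ⟨hp, hj, hrun⟩ := h3
        set p := Nat.div (L.par.get 32 r) 256
        set j := Nat.mod (L.par.get 32 r) 256
        have hp' : p < r := Nat.le_of_ble_eq_true hp
        obtain ⟨τ, hτR, hτfix, hτ⟩ := ih' p hp' (hp'.trans hr)
        have hj' : j < L.gens.length := Nat.le_of_ble_eq_true hj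
        have hu : L.gens.getD j [] ∈ L.gens := by
          rw [List.getD_eq_getElem _ _ hj']; exact List.getElem_mem hj'
        obtain ⟨hul, hufix⟩ := hg _ hu
        have hrw := runWord_pval T letters σ hσ _ hul
        refine ⟨pval σ (L.gens.getD j []) * τ, R.mul_mem ?_ hτR, ?_, ?_⟩
        · generalize L.gens.getD j [] = u at hul
          induction u with
          | nil => exact R.one_mem
          | cons l ls ihu =>
            exact R.mul_mem (ihu fun m hm => hul m (List.mem_cons_of_mem _ hm))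
              (hR l (hul l List.mem_cons_self))
        · intro i hi
          rw [Equiv.Perm.mul_apply, hτfix i hi]
          exact Fin.ext ((hrw i).trans (hufix _ hi))
        · rw [Equiv.Perm.mul_apply, hτ]
          exact Fin.ext ((hrw _).trans (Nat.eq_of_beq_eq_true hrun))
    choose u huR hufix hu using htr
    let F : Fin L.size × {τ : Equiv.Perm (Fin N) // τ ∈ R ∧ ∀ i : Fin N, (i : ℕ) ∈ L.base :: prev → τ i = i} →
        {τ : Equiv.Perm (Fin N) // τ ∈ R ∧ ∀ i : Fin N, (i : ℕ) ∈ prev → τ i = i} := fun x =>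
      ⟨u x.1 x.1.2 * x.2.1, R.mul_mem (huR _ _) x.2.2.1, fun i hi => by
        rw [Equiv.Perm.mul_apply, x.2.2.2 i (List.mem_cons_of_mem _ hi), hufix _ _ i hi]⟩
    have hF : Function.Injective F := by
      rintro ⟨r, τ⟩ ⟨r', τ'⟩ h
      have h1 : u r r.2 * τ.1 = u r' r'.2 * τ'.1 := congrArg Subtype.val h
      have hmem : ((pt ⟨0, Nat.pos_of_ne_zero hs⟩ : Fin N) : ℕ) ∈ L.base :: prev := by
        show L.ord.get 32 0 ∈ _
        rw [hpt0]; exact List.mem_cons_self
      have h2 := congrArg (fun π : Equiv.Perm (Fin N) => π (pt ⟨0, Nat.pos_of_ne_zero hs⟩)) h1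
      simp only [Equiv.Perm.mul_apply] at h2
      rw [τ.2.2 _ hmem, τ'.2.2 _ hmem, hu, hu] at h2
      have hrr : (r : ℕ) = r' := by
        have ha := hok r r.2
        have hb := hok r' r'.2
        simp only [Level.ok, Bool.and_eq_true] at ha hb
        have e1 := Nat.eq_of_beq_eq_true ha.2.1
        have e2 := Nat.eq_of_beq_eq_true hb.2.1
        have e3 : L.ord.get 32 r = L.ord.get 32 r' := congrArg Fin.val h2
        rw [e3, e2] at e1
        exact e1.symm
      obtain rfl : r = r' := Fin.ext hrr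
      rw [mul_left_cancel_iff] at h1
      rw [Subtype.ext h1]
    calc chainProd (L :: Ls) * _ = L.size * (chainProd Ls * _) := mul_assoc _ _ _
      _ ≤ L.size * _ := Nat.mul_le_mul le_rfl (ih _ hrest)
      _ = Nat.card (Fin L.size × _) := by rw [Nat.card_prod, Nat.card_fin]
      _ ≤ _ := Nat.card_le_card_of_injective F hF

/-- If the chain accounts for the whole group, only `1` fixes all its base points. -/
theorem eq_one_of_fix {N : ℕ} (T : ℕ → ℕ → ℕ) (letters : List ℕ) (σ : ℕ → Equiv.Perm (Fin N))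
    (hσ : ∀ l ∈ letters, ∀ i, (σ l i : ℕ) = T l i) (R : Subgroup (Equiv.Perm (Fin N)))
    (hR : ∀ l ∈ letters, σ l ∈ R) (Ls : List Level) (h : ChainValid N T letters [] Ls)
    (hcard : Nat.card R = chainProd Ls) {τ : Equiv.Perm (Fin N)} (hτ : τ ∈ R)
    (hfix : ∀ i : Fin N, (i : ℕ) ∈ allBases [] Ls → τ i = i) : τ = 1 := by
  by_contra hne
  have h1 := chainProd_mul_le T letters σ hσ R hR Ls [] h
  have h2 : Nat.card {τ : Equiv.Perm (Fin N) // τ ∈ R ∧ ∀ i : Fin N, (i : ℕ) ∈ ([] : List ℕ) → τ i = i} ≤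
      Nat.card R :=
    Nat.card_le_card_of_injective (fun τ => (⟨τ.1, τ.2.1⟩ : R))
      fun a b h => Subtype.ext (congrArg (fun x : R => (x : Equiv.Perm (Fin N))) h)
  have h3 : 2 ≤ Nat.card {τ : Equiv.Perm (Fin N) // τ ∈ R ∧ ∀ i : Fin N, (i : ℕ) ∈ allBases [] Ls → τ i = i} := by
    have : Nontrivial {τ : Equiv.Perm (Fin N) // τ ∈ R ∧ ∀ i : Fin N, (i : ℕ) ∈ allBases [] Ls → τ i = i} :=
      ⟨⟨⟨τ, hτ, hfix⟩, ⟨1, R.one_mem, fun i _ => rfl⟩, fun e => hne (congrArg Subtype.val e)⟩⟩
    exact Finite.one_lt_card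
  have h4 : 0 < chainProd Ls := hcard ▸ Nat.card_pos
  nlinarith

end Cfsg.Agent.FiSylow
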