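import Cfsg.Agent.CosetEnum.FiTwentyThree.Main
import Cfsg.Agent.FiSylow.Stab
import Cfsg.Agent.FiSylow.Checks

/-!
# Elements of the presented Fi23 tested at the six base points
-/

set_option autoImplicit false
set_option maxRecDepth 100000
set_option Elab.async false

namespace Cfsg.Agent.FiSylow

open Cfsg.Agent.CosetCert Cfsg.Agent.CosetEnum

/-- The base points. -/
def bases : List ℕ := [0, 11589, 52, 17, 104, 1]

/-- The letters of a word are generators. -/
def lettersB (u : List ℕ) : Bool := u.all fun l => Nat.ble 1 l && Nat.ble l 10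

/-- Two words act alike on the base points. -/
noncomputable def sameB (u v : List ℕ) : Bool :=
  bases.all fun b => Nat.beq (FiTwentyThree.data.run u b) (FiTwentyThree.data.run v b)

/-- The value of a word in the presented group. -/
noncomputable def val23 (u : List ℕ) : Cfsg.Spor.Fi23 :=
  pval (FiTwentyThree.data.act PresentedGroup.of) u

theorem val23_append (u v : List ℕ) : val23 (u ++ v) = val23 v * val23 u := pval_append _ u v

theorem val23_nil : val23 [] = 1 := rfl

/-- The subgroup fixing the first point. -/
noncomputable def ptSub : Subgroup Cfsg.Spor.Fi23 :=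
  (Subgroup.closure {r | r ∈ FiTwentyThree.gensList}).map
    (PresentedGroup.mk (Cfsg.Spor.coxRelators Cfsg.Spor.Fi23.edges ∪ {r | r ∈ Cfsg.Spor.Fi23.extra}))

theorem pts_pos : 0 < FiTwentyThree.data.N := FiTwentyThree.valid.pos

/-- The first point. -/
noncomputable def pt0 : Fin FiTwentyThree.data.N := ⟨0, pts_pos⟩

theorem exists_rep : ∃ φ : Cfsg.Spor.Fi23 →* Equiv.Perm (Fin FiTwentyThree.data.N),
    Function.Injective φ ∧
    (∀ w, lettersB w = true → ∀ i, (φ (val23 w) i : ℕ) = FiTwentyThree.data.run w i) ∧
    (∀ g, φ g pt0 = pt0 → g ∈ ptSub) ∧ (∀ i, ∃ g, φ g pt0 = i) := by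
  obtain ⟨φ, hof, e, he, he0⟩ := enum_spec FiTwentyThree.valid FiTwentyThree.word_letters
    FiTwentyThree.base_letters
  obtain ⟨-, -, -, ψ, hinj, hof'⟩ := simple_of_cert (M := 129123503308800) FiTwentyThree.valid
    FiTwentyThree.word_letters FiTwentyThree.base_letters
    Cfsg.Agent.CosetEnum.FiTwentyThree.simpleData Cfsg.Agent.CosetEnum.FiTwentyThree.subgroup_bound
    Cfsg.Agent.CosetEnum.FiTwentyThree.chain_valid
    (by decide +kernel) (by decide +kernel) Cfsg.Agent.CosetEnum.FiTwentyThree.intervals_valid
    (by decide +kernel) (by decide +kernel)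
    (by decide +kernel) (by decide +kernel) (by decide +kernel) (by decide +kernel) (by decide +kernel)
    Cfsg.Agent.CosetEnum.FiTwentyThree.points_ok
  obtain rfl : φ = ψ := PresentedGroup.ext fun a => by rw [hof, hof']
  have hlen : FiTwentyThree.data.cols.length = 10 := by decide +kernel
  refine ⟨φ, hinj, fun w hw i => ?_, fun g hg => ?_, fun i => ?_⟩
  · rw [val23, PresData.map_pval]
    have : (φ ∘ PresentedGroup.of) = PresData.genPerm FiTwentyThree.valid := funext hof
    rw [this]
    refine PresData.letters_words FiTwentyThree.valid fun l hl => ?_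
    have h := List.all_eq_true.1 hw l hl
    rw [Bool.and_eq_true] at h
    exact ⟨Nat.le_of_ble_eq_true h.1, hlen ▸ Nat.le_of_ble_eq_true h.2⟩
  · have h1 := he g ((1 : Cfsg.Spor.Fi23) : Cfsg.Spor.Fi23 ⧸ ptSub)
    erw [he0] at h1
    rw [show (⟨0, FiTwentyThree.valid.pos⟩ : Fin FiTwentyThree.data.N) = pt0 from rfl, hg] at h1
    have h2 := e.injective (h1.trans he0.symm)
    erw [MulAction.Quotient.smul_coe, smul_eq_mul, mul_one] at h2
    have h3 := QuotientGroup.eq.1 h2
    rw [mul_one] at h3
    exact (inv_mem_iff (x := g)).1 h3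
  · obtain ⟨g, hg⟩ := QuotientGroup.mk_surjective (e.symm i)
    refine ⟨g, ?_⟩
    have h1 := he g ((1 : Cfsg.Spor.Fi23) : Cfsg.Spor.Fi23 ⧸ ptSub)
    erw [he0, MulAction.Quotient.smul_coe, smul_eq_mul, mul_one, hg, Equiv.apply_symm_apply] at h1
    exact h1.symm

/-- The faithful action. -/
noncomputable def rep : Cfsg.Spor.Fi23 →* Equiv.Perm (Fin FiTwentyThree.data.N) :=
  exists_rep.choose

theorem rep_injective : Function.Injective rep := exists_rep.choose_spec.1

theorem rep_run {w : List ℕ} (hw : lettersB w = true) (i : Fin FiTwentyThree.data.N) :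
    (rep (val23 w) i : ℕ) = FiTwentyThree.data.run w i := exists_rep.choose_spec.2.1 w hw i

theorem mem_ptSub {g : Cfsg.Spor.Fi23} (h : rep g pt0 = pt0) : g ∈ ptSub :=
  exists_rep.choose_spec.2.2.1 g h

theorem exists_move (i : Fin FiTwentyThree.data.N) : ∃ g, rep g pt0 = i :=
  exists_rep.choose_spec.2.2.2 i

/-- **Equality is decided on the base points.** -/
theorem val23_eq_iff {u v : List ℕ} (hu : lettersB u = true) (hv : lettersB v = true) :
    val23 u = val23 v ↔ sameB u v = true := by
  have hbN : ∀ b ∈ bases, b < FiTwentyThree.data.N := by decide +kernel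
  constructor
  · intro h
    refine List.all_eq_true.2 fun b hb => ?_
    rw [← rep_run hu ⟨b, hbN b hb⟩, h, rep_run hv ⟨b, hbN b hb⟩]
    exact Nat.beq_refl _
  · intro h
    apply rep_injective
    set letters := (List.range FiTwentyThree.data.cols.length).map (· + 1) with hletters
    have hσ : ∀ l ∈ letters, ∀ i, (rep (val23 [l]) i : ℕ) = FiTwentyThree.data.look l i := by
      intro l hl i
      refine rep_run ?_ i
      exact (by decide +kernel :
        ∀ l ∈ (List.range FiTwentyThree.data.cols.length).map (· + 1), lettersB [l] = true) l hl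
    have hR : Nat.card rep.range = chainProd Cfsg.Agent.CosetEnum.FiTwentyThree.simpleData.levels := by
      rw [← Nat.card_congr (MonoidHom.ofInjective rep_injective).toEquiv,
        Cfsg.Agent.CosetEnum.FiTwentyThree.main.2]
      decide +kernel
    have hb : ∀ i ∈ allBases [] Cfsg.Agent.CosetEnum.FiTwentyThree.simpleData.levels, i ∈ bases := by
      decide +kernel
    have key := eq_one_of_fix FiTwentyThree.data.look letters (fun l => rep (val23 [l])) hσ rep.range
      (fun l _ => ⟨_, rfl⟩) Cfsg.Agent.CosetEnum.FiTwentyThree.simpleData.levels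
      Cfsg.Agent.CosetEnum.FiTwentyThree.chain_valid hR (τ := (rep (val23 v))⁻¹ * rep (val23 u))
      (mul_mem (inv_mem ⟨_, rfl⟩) ⟨_, rfl⟩) (fun i hi => by
        rw [Equiv.Perm.mul_apply, Equiv.Perm.inv_def, Equiv.symm_apply_eq]
        apply Fin.ext
        rw [rep_run hu, rep_run hv]
        exact Nat.eq_of_beq_eq_true (List.all_eq_true.1 h _ (hb _ hi)))
    exact (inv_mul_eq_one.1 key).symm

/-- The word of the transposition `j`. -/
def trW (j : ℕ) : List ℕ := ewT.getD j []

/-- The word of the pc generator `k`. -/
def scW (k : ℕ) : List ℕ := swT.getD k []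

/-- The word of a coordinate vector. -/
def evW : ℕ → ℕ → List ℕ
  | 0, _ => []
  | n + 1, v => cond (v.testBit n) (trW n) [] ++ evW n v

/-- The word of a product of pc generators. -/
def swW : ℕ → ℕ → List ℕ
  | 0, _ => []
  | n + 1, w => cond (w.testBit n) (scW n) [] ++ swW n w

/-- The transpositions. -/
noncomputable def eFi (j : ℕ) : Cfsg.Spor.Fi23 := val23 (trW j)

/-- The pc generators. -/
noncomputable def sFi (k : ℕ) : Cfsg.Spor.Fi23 := val23 (scW k)

theorem val23_evW : ∀ n v, val23 (evW n v) = evE eFi n v := by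
  intro n v
  induction n with
  | zero => rfl
  | succ n ih =>
    rw [evW, val23_append, evE, ih]
    cases v.testBit n <;> rfl

theorem val23_swW : ∀ n w, val23 (swW n w) = swS sFi n w := by
  intro n w
  induction n with
  | zero => rfl
  | succ n ih =>
    rw [swW, val23_append, swS, ih]
    cases w.testBit n <;> rfl

theorem trW_letters : ∀ j, lettersB (trW j) = true := by
  intro j
  by_cases hj : j < 11
  · exact (by decide +kernel : ∀ j < 11, lettersB (trW j) = true) j hj
  · rw [trW, List.getD_eq_default _ _ (by simp [ewT]; omega)]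
    rfl

theorem scW_letters : ∀ k, lettersB (scW k) = true := by
  intro k
  by_cases hk : k < 7
  · exact (by decide +kernel : ∀ k < 7, lettersB (scW k) = true) k hk
  · rw [scW, List.getD_eq_default _ _ (by simp [swT]; omega)]
    rfl

theorem lettersB_append {u v : List ℕ} (hu : lettersB u = true) (hv : lettersB v = true) :
    lettersB (u ++ v) = true := by
  rw [lettersB, List.all_append, Bool.and_eq_true]
  exact ⟨hu, hv⟩

theorem evW_letters : ∀ n v, lettersB (evW n v) = true := by
  intro n v
  induction n with
  | zero => rfl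
  | succ n ih =>
    refine lettersB_append ?_ ih
    cases v.testBit n
    · rfl
    · exact trW_letters n

theorem swW_letters : ∀ n w, lettersB (swW n w) = true := by
  intro n w
  induction n with
  | zero => rfl
  | succ n ih =>
    refine lettersB_append ?_ ih
    cases w.testBit n
    · rfl
    · exact scW_letters n

theorem chk_e : (List.range 11).all (fun j => sameB (trW j ++ trW j) [] &&
    (List.range j).all fun i => sameB (trW j ++ trW i) (trW i ++ trW j)) = true := by
  decide +kernel

theorem chk_act : (List.range 7).all (fun k => (List.range 11).all fun j =>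
    sameB (trW j ++ scW k) (scW k ++ evW 11 ((mats.getD k []).getD j 0))) = true := by
  decide +kernel

theorem chk_sq : (List.range 7).all (fun k =>
    sameB (scW k ++ scW k) (swW 7 (sqT.getD k (0, 0)).2 ++ evW 11 (sqT.getD k (0, 0)).1)) = true := by
  decide +kernel

theorem chk_comm : (List.range 7).all (fun k => (List.range k).all fun j =>
    sameB (scW j ++ scW k)
      (scW k ++ (swW 7 ((cmT.getD k []).getD j (0, 0)).2 ++ evW 11 ((cmT.getD k []).getD j (0, 0)).1))) = true := by
  decide +kernel

/-- One labelled orbit is correct. -/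
noncomputable def orbLabelOK (p : List ℕ × List ℕ) : Bool :=
  Nat.beq p.1.length 32 && ((p.1.all fun x => Nat.blt x FiTwentyThree.data.N) &&
    ((List.range 11).all fun j => Nat.blt (p.2.getD j 0) 32 &&
      (List.range 32).all fun l =>
        Nat.beq (FiTwentyThree.data.run (trW j) (p.1.getD l 0)) (p.1.getD (Nat.xor l (p.2.getD j 0)) 0)))

theorem chk_labels : orbPts.all orbLabelOK = true := by decide +kernel

theorem chk_labels_nodup : orbPts.all (fun p => decide p.1.Nodup) = true := by decide +kernel

theorem chk_indep : allB (fun v => Nat.beq v 0 ||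
    orbPts.any fun p => !(Nat.beq (appV p.2 11 v) 0)) 11 0 = true := by
  decide +kernel

theorem rels : Rels eFi sFi mats sqT cmT where
  e_sq j hj := by
    have h := List.all_eq_true.1 chk_e j (List.mem_range.2 hj)
    rw [Bool.and_eq_true] at h
    rw [eFi, ← val23_append, ← val23_nil, val23_eq_iff (lettersB_append (trW_letters j) (trW_letters j)) rfl]
    exact h.1
  e_comm i hi j hj := by
    have key : ∀ i j, i < j → j < 11 → eFi i * eFi j = eFi j * eFi i := by
      intro i j hij hj
      have h := List.all_eq_true.1 chk_e j (List.mem_range.2 hj)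
      rw [Bool.and_eq_true] at h
      rw [eFi, eFi, ← val23_append, ← val23_append,
        val23_eq_iff (lettersB_append (trW_letters j) (trW_letters i))
          (lettersB_append (trW_letters i) (trW_letters j))]
      exact List.all_eq_true.1 h.2 i (List.mem_range.2 hij)
    rcases lt_trichotomy i j with h | h | h
    · exact key i j h hj
    · rw [h]
    · exact (key j i h hi).symm
  act k hk j hj := by
    have h := List.all_eq_true.1 (List.all_eq_true.1 chk_act k (List.mem_range.2 hk)) j (List.mem_range.2 hj)
    rw [sFi, eFi, ← val23_evW, ← val23_append, ← val23_append,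
      val23_eq_iff (lettersB_append (trW_letters j) (scW_letters k))
        (lettersB_append (scW_letters k) (evW_letters _ _))]
    exact h
  s_sq k hk := by
    have h := List.all_eq_true.1 chk_sq k (List.mem_range.2 hk)
    rw [sFi, ← val23_evW, ← val23_swW, ← val23_append, ← val23_append,
      val23_eq_iff (lettersB_append (scW_letters k) (scW_letters k))
        (lettersB_append (swW_letters _ _) (evW_letters _ _))]
    exact h
  s_comm k hk j hj := by
    have h := List.all_eq_true.1 (List.all_eq_true.1 chk_comm k (List.mem_range.2 hk)) j (List.mem_range.2 hj)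
    rw [sFi, sFi, ← val23_evW, ← val23_swW, ← val23_append, ← val23_append, ← val23_append,
      val23_eq_iff (lettersB_append (scW_letters j) (scW_letters k))
        (lettersB_append (scW_letters k) (lettersB_append (swW_letters _ _) (evW_letters _ _)))]
    exact h
  bound := by decide +kernel

/-- The coordinates are unique. -/
theorem einj : EInj eFi := by
  intro v v' hv hv' h
  have h1 : evE eFi 11 (v ^^^ v') = 1 := by
    rw [← evE_mul rels 11 le_rfl, h, evE_mul rels 11 le_rfl, Nat.xor_self, evE_zero]
  have hx := Nat.xor_lt_two_pow hv hv'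
  have h2 := allB_spec_zero chk_indep le_rfl hx
  rw [Bool.or_eq_true] at h2
  rcases h2 with h2 | h2
  · exact Nat.xor_eq_zero_iff.1 (Nat.eq_of_beq_eq_true h2)
  exfalso
  obtain ⟨p, hp, hp'⟩ := List.any_eq_true.1 h2
  have hok := List.all_eq_true.1 chk_labels p hp
  simp only [orbLabelOK, Bool.and_eq_true, List.all_eq_true, List.mem_range] at hok
  obtain ⟨hlen, hlt, hlab⟩ := hok
  have hlen' : p.1.length = 32 := Nat.eq_of_beq_eq_true hlen
  have hpN : ∀ l < 32, p.1.getD l 0 < FiTwentyThree.data.N := by
    intro l hl
    rw [List.getD_eq_getElem _ _ (hlen'.symm ▸ hl)]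
    exact Nat.le_of_ble_eq_true (hlt _ (List.getElem_mem _))
  have hc : ∀ n ≤ 11, ∀ w, appV p.2 n w < 2 ^ 5 := by
    intro n hn w
    induction n with
    | zero => simp [appV_zero]
    | succ n ih =>
      rw [appV_succ]
      refine Nat.xor_lt_two_pow (ih (by omega)) ?_
      cases w.testBit n
      · simp
      · exact Nat.le_of_ble_eq_true (hlab n (by omega)).1
  have key : ∀ n ≤ 11, ∀ w l (hl : l < 2 ^ 5), (rep (evE eFi n w) ⟨p.1.getD l 0, hpN l hl⟩ : ℕ) =
      p.1.getD (l ^^^ appV p.2 n w) 0 := by
    intro n hn w
    induction n with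
    | zero => intro l hl; simp [evE, appV_zero]
    | succ n ih =>
      intro l hl
      rw [evE, appV_succ, map_mul, Equiv.Perm.mul_apply]
      cases w.testBit n
      · simp only [cond_false, map_one, Equiv.Perm.coe_one, id_eq, Nat.xor_zero]
        exact ih (by omega) l hl
      · simp only [cond_true]
        obtain ⟨hcn, hrun⟩ := hlab n (by omega)
        have hl' : l ^^^ p.2.getD n 0 < 2 ^ 5 := Nat.xor_lt_two_pow hl (Nat.le_of_ble_eq_true hcn)
        have e1 : rep (eFi n) ⟨p.1.getD l 0, hpN l hl⟩ = ⟨_, hpN _ hl'⟩ :=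
          Fin.ext ((rep_run (trW_letters n) _).trans (Nat.eq_of_beq_eq_true (hrun l hl)))
        rw [e1, ih (by omega) _ hl', Nat.xor_assoc, Nat.xor_comm (p.2.getD n 0)]
  have h3 := key 11 le_rfl (v ^^^ v') 0 (by norm_num)
  rw [h1, map_one, Equiv.Perm.one_apply, Nat.zero_xor] at h3
  have hnd : p.1.Nodup := of_decide_eq_true (List.all_eq_true.1 chk_labels_nodup p hp)
  have hb : appV p.2 11 (v ^^^ v') < p.1.length := hlen'.symm ▸ hc 11 le_rfl _
  have h0 : 0 < p.1.length := by omega
  simp only at h3
  rw [List.getD_eq_getElem _ _ h0, List.getD_eq_getElem _ _ hb] at h3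
  rw [← hnd.getElem_inj_iff.1 h3] at hp'
  exact absurd hp' (by decide)

/-- The Sylow 2-subgroup data: `E` and `T`. -/
theorem sylow_structure :
    Nat.card (pcSub eFi sFi 7) = 2 ^ 18 ∧ Nat.card (pcSub eFi sFi 0) = 2 ^ 11 :=
  ⟨card_pcSub_seven rels facts einj, card_pcSub_zero rels facts einj⟩

end Cfsg.Agent.FiSylow
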