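import Cfsg.Agent.FiSylow.Fi
import Cfsg.Prelude.Def_Transfer

/-!
# Normal elementary abelian subgroups of a Sylow 2-subgroup of Fi23
-/

set_option autoImplicit false
set_option maxRecDepth 100000

namespace Cfsg.Agent.FiSylow

theorem card_fi23 : Nat.card Cfsg.Spor.Fi23 = 4089470473293004800 :=
  Cfsg.Agent.CosetEnum.FiTwentyThree.main.2

/-- Every Sylow 2-subgroup is a conjugate of the 2-group. -/
theorem exists_conj (T : Sylow 2 Cfsg.Spor.Fi23) :
    ∃ g : Cfsg.Spor.Fi23, (pcSub eFi sFi 7).map (MulAut.conj g).toMonoidHom = T := by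
  have hfin : Finite Cfsg.Spor.Fi23 := Nat.finite_of_card_ne_zero (by rw [card_fi23]; norm_num)
  have hfact : Fact (Nat.Prime 2) := ⟨Nat.prime_two⟩
  have hp : IsPGroup 2 (pcSub eFi sFi 7) := IsPGroup.of_card sylow_structure.1
  have hidx : ¬ 2 ∣ (pcSub eFi sFi 7).index := by
    have h := (pcSub eFi sFi 7).card_mul_index
    rw [sylow_structure.1, card_fi23] at h
    have : (pcSub eFi sFi 7).index = 15600091832325 := by norm_num at h ⊢; omega
    rw [this]; norm_num
  obtain ⟨g, hg⟩ := MulAction.exists_smul_eq Cfsg.Spor.Fi23 (hp.toSylow hidx) T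
  exact ⟨g, by rw [← hg]; rfl⟩

theorem main (T : Sylow 2 Cfsg.Spor.Fi23) :
    (∀ A : Subgroup Cfsg.Spor.Fi23, A ≤ T → (A.subgroupOf T).Normal → Cfsg.IsElementaryAbelian 2 A →
        Nat.card A ≤ 2 ^ 11) ∧
    ∃! A : Subgroup Cfsg.Spor.Fi23, A ≤ T ∧ (A.subgroupOf T).Normal ∧ Cfsg.IsElementaryAbelian 2 A ∧
        Nat.card A = 2 ^ 11 := by
  obtain ⟨g, hg⟩ := exists_conj T
  set E := (pcSub eFi sFi 0).map (MulAut.conj g).toMonoidHom with hE
  have hinj : Function.Injective (MulAut.conj g).toMonoidHom := (MulAut.conj g).injective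
  have key : ∀ A : Subgroup Cfsg.Spor.Fi23, A ≤ T → Cfsg.IsElementaryAbelian 2 A →
      Nat.card A ≤ 2 ^ 11 ∧ (Nat.card A = 2 ^ 11 → A = E) := by
    intro A hA hEA
    set B := A.comap (MulAut.conj g).toMonoidHom with hB
    have hmap : B.map (MulAut.conj g).toMonoidHom = A :=
      Subgroup.map_comap_eq_self_of_surjective (MulAut.conj g).surjective A
    have hcard : Nat.card B = Nat.card A := by
      rw [← hmap, Subgroup.card_map_of_injective hinj]
    have hB7 : B ≤ pcSub eFi sFi 7 := by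
      rw [← Subgroup.map_le_map_iff_of_injective hinj, hmap, hg]
      exact hA
    have hc : ∀ x ∈ B, ∀ y ∈ B, x * y = y * x := by
      intro x hx y hy
      apply hinj
      have := congrArg Subtype.val (hEA.1.is_comm.comm ⟨_, hx⟩ ⟨_, hy⟩)
      simp only [Subgroup.coe_mul] at this
      rw [map_mul, map_mul]; exact this
    have h2 : ∀ x ∈ B, x * x = 1 := by
      intro x hx
      apply hinj
      rw [map_mul, map_one, ← pow_two]
      exact hEA.2 _ hx
    obtain ⟨h1, h3⟩ := card_elementary_le rels facts einj hB7 hc h2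
    refine ⟨hcard ▸ h1, fun h => ?_⟩
    rw [← hmap, h3 (hcard.trans h)]
  refine ⟨fun A hA _ hEA => (key A hA hEA).1, E, ⟨?_, ?_, ?_, ?_⟩, fun A hA => (key A hA.1 hA.2.2.1).2 hA.2.2.2⟩
  · rw [← hg]
    exact Subgroup.map_mono (pcSub_mono eFi sFi (Nat.zero_le 7))
  · refine ⟨fun n hn x => ?_⟩
    rw [Subgroup.mem_subgroupOf] at hn ⊢
    obtain ⟨n', hn', hn''⟩ := hn
    have hx : (x : Cfsg.Spor.Fi23) ∈ (pcSub eFi sFi 7).map (MulAut.conj g).toMonoidHom := by
      rw [hg]; exact x.2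
    obtain ⟨x', hx', hx''⟩ := hx
    refine ⟨x' * n' * x'⁻¹, ?_, ?_⟩
    · obtain ⟨u, -, rfl⟩ := mem_pcSub_zero rels hn'
      obtain ⟨v, -, w, -, rfl⟩ := mem_pcSub_seven rels hx'
      rw [elt_mul_evE rels, mul_inv_cancel_right]
      exact evE_mem eFi sFi 0 11 le_rfl _
    · rw [map_mul, map_mul, map_inv, hx'', hn'']
      rfl
  · refine ⟨⟨⟨?_⟩⟩, ?_⟩
    · rintro ⟨_, a, ha, rfl⟩ ⟨_, b, hb, rfl⟩
      obtain ⟨u, -, rfl⟩ := mem_pcSub_zero rels ha
      obtain ⟨v, -, rfl⟩ := mem_pcSub_zero rels hb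
      apply Subtype.ext
      show _ * _ = _ * _
      rw [← map_mul, ← map_mul, evE_mul rels 11 le_rfl, evE_mul rels 11 le_rfl, Nat.xor_comm]
    · rintro _ ⟨a, ha, rfl⟩
      obtain ⟨u, -, rfl⟩ := mem_pcSub_zero rels ha
      rw [← map_pow, pow_two, evE_mul rels 11 le_rfl, Nat.xor_self, evE_zero, map_one]
  · rw [hE, Subgroup.card_map_of_injective hinj, sylow_structure.2]

end Cfsg.Agent.FiSylow
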