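import Cfsg.Agent.FiSylow.OutChecks
import Cfsg.Agent.FiSylow.Main
import Cfsg.Prelude.Def_KGroupFacts

/-!
# Every automorphism of the presented Fi23 is inner
-/

set_option autoImplicit false
set_option maxRecDepth 100000

namespace Cfsg.Agent.FiSylow

open Cfsg.Agent.CosetCert Cfsg.Agent.CosetEnum

theorem gp_lt (l : ℕ) : gp l < FiTwentyThree.data.N := by
  by_cases h : l < 11
  · exact (by decide +kernel : ∀ l < 11, gp l < FiTwentyThree.data.N) l h
  · rw [gp, List.getD_eq_default _ _ (by simp [genPts]; omega)]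
    exact pts_pos

/-- The point of the `k`th generator fixed. -/
noncomputable def gpt (k : ℕ) : Fin FiTwentyThree.data.N := ⟨gp (ordL.getD k 0), gp_lt _⟩

theorem letter_eq_tp {l : ℕ} (h1 : 1 ≤ l) (h2 : l ≤ 10) : val23 [l] = tp ⟨gp l, gp_lt l⟩ := by
  have h := List.all_eq_true.1 gen_paths l (List.mem_range.2 (by omega))
  rw [Bool.or_eq_true] at h
  rcases h with h | h
  · have := Nat.eq_of_beq_eq_true h; omega
  simp only [Bool.and_eq_true] at h
  obtain ⟨hl, hrun, hsame⟩ := h
  set x := val23 (genPaths.getD l [])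
  have hx : rep x pt0 = ⟨gp l, gp_lt l⟩ :=
    Fin.ext ((rep_run hl pt0).trans (Nat.eq_of_beq_eq_true hrun))
  have hlet : lettersB [l] = true := by simp [lettersB, h1, h2]
  have h' := (val23_eq_iff (lettersB_append (by decide +kernel) hl) (lettersB_append hl hlet)).2 hsame
  rw [val23_append, val23_append] at h'
  rw [tp_eq hx, eq_mul_inv_iff_mul_eq]
  exact h'.symm

theorem look_eq {m : ℕ} (h1 : 1 ≤ m) (h2 : m ≤ 10) (p : Fin FiTwentyThree.data.N) :
    Nat.beq (FiTwentyThree.data.look m p) p = true ↔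
      tp ⟨gp m, gp_lt m⟩ * tp p = tp p * tp ⟨gp m, gp_lt m⟩ := by
  rw [← rep_tp_eq_iff, ← letter_eq_tp h1 h2]
  have h := rep_run (w := [m]) (by simp [lettersB, h1, h2]) p
  constructor
  · intro h'
    exact Fin.ext (h.trans (Nat.eq_of_beq_eq_true h'))
  · intro h'
    rw [show FiTwentyThree.data.look m p = (rep (val23 [m]) p : ℕ) from h.symm, h']
    exact Nat.beq_refl _

theorem ordL_range {j : ℕ} (hj : j < 10) : 1 ≤ ordL.getD j 0 ∧ ordL.getD j 0 ≤ 10 :=
  (by decide +kernel : ∀ j < 10, 1 ≤ ordL.getD j 0 ∧ ordL.getD j 0 ≤ 10) j hj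

/-- An automorphism fixing the first `k` transpositions sends the next one to a candidate. -/
theorem cand_of_aut (γ : Cfsg.Spor.Fi23 ≃* Cfsg.Spor.Fi23) {k : ℕ} (hk : k < 10)
    (hfix : ∀ j < k, γ (tp (gpt j)) = tp (gpt j)) {q : Fin FiTwentyThree.data.N}
    (hq : γ (tp (gpt k)) = tp q) : candOK (ordL.take k) (ordL.getD k 0) q = true := by
  simp only [candOK, Bool.and_eq_true, List.all_eq_true]
  refine ⟨Nat.ble_eq_true_of_le q.2, fun m hm => ?_⟩
  obtain ⟨j, hj, rfl⟩ : ∃ j < k, ordL.getD j 0 = m := by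
    obtain ⟨j, hj, rfl⟩ := List.mem_iff_getElem.1 hm
    have hj' : j < k ∧ j < ordL.length := by
      simp only [List.length_take] at hj; omega
    exact ⟨j, hj'.1, by rw [List.getD_eq_getElem _ _ hj'.2, List.getElem_take]⟩
  obtain ⟨h1, h2⟩ := ordL_range (lt_trans hj hk)
  refine ⟨?_, ?_⟩
  · cases h : Nat.beq (q : ℕ) (gp (ordL.getD j 0))
    · rfl
    · exfalso
      have hqj : q = gpt j := Fin.ext (Nat.eq_of_beq_eq_true h)
      rw [hqj, ← hfix j hj] at hq
      have := Fin.val_eq_of_eq (tp_injective (γ.injective hq))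
      exact (by decide +kernel : ∀ k < 10, ∀ j < k,
        gp (ordL.getD k 0) ≠ gp (ordL.getD j 0)) k hk j hj this
  · rw [beq_iff_eq, Bool.eq_iff_iff, look_eq h1 h2,
      show gp (ordL.getD k 0) = ((gpt k : Fin FiTwentyThree.data.N) : ℕ) from rfl, look_eq h1 h2]
    show tp (gpt j) * tp q = tp q * tp (gpt j) ↔ _
    rw [← hq]
    nth_rewrite 1 [← hfix j hj]
    nth_rewrite 2 [← hfix j hj]
    rw [← map_mul, ← map_mul, γ.injective.eq_iff]
    rfl

/-- The pointwise stabilizer of the first `k` points. -/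
noncomputable def stabK (k : ℕ) : Subgroup Cfsg.Spor.Fi23 where
  carrier := {g | ∀ j < k, rep g (gpt j) = gpt j}
  one_mem' j _ := by simp
  mul_mem' {a b} ha hb j hj := by rw [map_mul, Equiv.Perm.mul_apply, hb j hj, ha j hj]
  inv_mem' {a} ha j hj := by
    rw [map_inv, Equiv.Perm.inv_def, Equiv.symm_apply_eq, ha j hj]

/-- The product of the candidate numbers from `k` on. -/
def prodFrom (k : ℕ) : ℕ := (sizeL.drop k).prod

theorem fi_finite : Finite Cfsg.Spor.Fi23 :=
  Nat.finite_of_card_ne_zero (by rw [card_fi23]; norm_num)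

open scoped Classical in
/-- The orbit of the next point. -/
noncomputable def orbK (k : ℕ) : Finset (Fin FiTwentyThree.data.N) :=
  Finset.univ.filter fun q => ∃ g ∈ stabK k, rep g (gpt k) = q

theorem card_stab_le_orb (k : ℕ) :
    Nat.card (stabK k) ≤ (orbK k).card * Nat.card (stabK (k + 1)) := by
  classical
  have hfin := fi_finite
  have hmem : ∀ g : stabK k, rep (g : Cfsg.Spor.Fi23) (gpt k) ∈ orbK k := fun g =>
    Finset.mem_filter.2 ⟨Finset.mem_univ _, g, g.2, rfl⟩
  choose c hc1 hc2 using fun q : orbK k => (Finset.mem_filter.1 q.2).2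
  refine le_trans (Nat.card_le_card_of_injective
    (fun g : stabK k => ((⟨_, hmem g⟩, ⟨(c ⟨_, hmem g⟩)⁻¹ * g, ?_⟩) : orbK k × stabK (k + 1))) ?_) ?_
  · intro j hj
    rcases Nat.lt_succ_iff_lt_or_eq.1 hj with h | h
    · exact mul_mem (inv_mem (hc1 _)) g.2 j h
    · subst h
      rw [map_mul, Equiv.Perm.mul_apply, map_inv, Equiv.Perm.inv_def, Equiv.symm_apply_eq, hc2]
  · intro g g' h
    simp only [Prod.mk.injEq, Subtype.mk.injEq] at h
    have e : c ⟨_, hmem g⟩ = c ⟨_, hmem g'⟩ := congrArg c (Subtype.ext h.1)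
    have h2 : (c ⟨_, hmem g⟩)⁻¹ * (g : Cfsg.Spor.Fi23) = (c ⟨_, hmem g'⟩)⁻¹ * g' :=
      congrArg Subtype.val h.2
    rw [e] at h2
    exact Subtype.ext (mul_left_cancel h2)
  · rw [Nat.card_prod]; simp

theorem orbK_cand {k : ℕ} (hk : k < 10) {q : Fin FiTwentyThree.data.N} (hq : q ∈ orbK k) :
    candOK (ordL.take k) (ordL.getD k 0) q = true := by
  classical
  obtain ⟨g, hg, hgq⟩ := (Finset.mem_filter.1 hq).2
  refine cand_of_aut (MulAut.conj g) hk (fun j hj => ?_) ?_
  · show g * tp (gpt j) * g⁻¹ = _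
    rw [tp_conj, hg j hj]
  · show g * tp (gpt k) * g⁻¹ = _
    rw [tp_conj, hgq]

theorem card_cand_le {k : ℕ} (hk : k < 10) (S : Finset (Fin FiTwentyThree.data.N))
    (hS : ∀ p ∈ S, candOK (ordL.take k) (ordL.getD k 0) p = true) : S.card ≤ sizeL.getD k 0 := by
  have h := List.all_eq_true.1 cand_count k (List.mem_range.2 hk)
  rw [Bool.and_eq_true] at h
  refine le_trans (card_le_popB _ (Nat.le_of_ble_eq_true h.1) S fun p hp => ?_)
    (Nat.eq_of_beq_eq_true h.2).le
  refine candMask_testBit _ (fun m hm => ?_) p.2 (hS p hp)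
  exact (by decide +kernel : ∀ k < 10, ∀ m ∈ ordL.take k, m ∈ [1, 3, 5, 7, 8, 9, 10, 6, 4]) k hk m hm

theorem card_orbK_le {k : ℕ} (hk : k < 10) : (orbK k).card ≤ sizeL.getD k 0 := by
  exact card_cand_le hk (orbK k) fun q hq => orbK_cand hk hq

theorem prodFrom_succ {k : ℕ} (hk : k < 10) : prodFrom k = sizeL.getD k 0 * prodFrom (k + 1) :=
  (by decide +kernel : ∀ k < 10, prodFrom k = sizeL.getD k 0 * prodFrom (k + 1)) k hk

theorem central_of_fix {g : Cfsg.Spor.Fi23} (h : ∀ j < 10, rep g (gpt j) = gpt j) : g = 1 := by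
  have hgen : ∀ a : Cfsg.Spor.Fi23.Gen, PresentedGroup.of a * g = g * PresentedGroup.of a := by
    intro a
    obtain ⟨c1, c2, c3⟩ := FiTwentyThree.valid.allCode a
    have h2 : FiTwentyThree.data.code a ≤ 10 :=
      le_trans c2 (by decide +kernel)
    obtain ⟨j, hj, hja⟩ : ∃ j < 10, ordL.getD j 0 = FiTwentyThree.data.code a := by
      cases a <;> decide +kernel
    have hv : val23 [FiTwentyThree.data.code a] = (PresentedGroup.of a : Cfsg.Spor.Fi23) := by
      obtain ⟨m, hm⟩ : ∃ m, FiTwentyThree.data.code a = m + 1 := ⟨FiTwentyThree.data.code a - 1, by omega⟩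
      rw [hm] at c3 ⊢
      simp only [Nat.add_sub_cancel] at c3
      simp [val23, pval, PresData.act, c3, PresData.lval]
    rw [← hv, letter_eq_tp c1 h2]
    have := tp_conj g (gpt j)
    rw [h j hj] at this
    have hp : (⟨gp (FiTwentyThree.data.code a), gp_lt _⟩ : Fin FiTwentyThree.data.N) = gpt j :=
      Fin.ext (by rw [← hja]; rfl)
    rw [hp]
    exact (mul_inv_eq_iff_eq_mul.1 this).symm
  have hz : g ∈ Subgroup.center Cfsg.Spor.Fi23 := by
    have hle : (⊤ : Subgroup Cfsg.Spor.Fi23) ≤ Subgroup.centralizer {g} := by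
      rw [← PresentedGroup.closure_range_of, Subgroup.closure_le]
      rintro _ ⟨a, rfl⟩
      exact Subgroup.mem_centralizer_singleton_iff.2 (hgen a)
    exact Subgroup.mem_center_iff.2 fun x =>
      Subgroup.mem_centralizer_singleton_iff.1 (hle (Subgroup.mem_top x))
  have hsimple : IsSimpleGroup Cfsg.Spor.Fi23 := Cfsg.Agent.CosetEnum.FiTwentyThree.main.1
  rcases (inferInstance : (Subgroup.center Cfsg.Spor.Fi23).Normal).eq_bot_or_eq_top with h' | h'
  · rwa [h', Subgroup.mem_bot] at hz
  · exfalso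
    have hab : val23 [1] * val23 [2] = val23 [2] * val23 [1] :=
      Subgroup.mem_center_iff.1 (h' ▸ Subgroup.mem_top (val23 [2])) (val23 [1])
    rw [← val23_append, ← val23_append, val23_eq_iff (by decide +kernel) (by decide +kernel)] at hab
    exact absurd hab (by decide +kernel)

theorem card_stab_le : ∀ i k, k + i = 10 → Nat.card (stabK k) ≤ prodFrom k := by
  intro i
  induction i with
  | zero =>
    intro k hk
    simp only [Nat.add_zero] at hk
    subst hk
    have : stabK 10 = ⊥ := (Subgroup.eq_bot_iff_forall _).2 fun g hg => central_of_fix hg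
    rw [this, Subgroup.card_bot]
    decide +kernel
  | succ i ih =>
    intro k hk
    have hk' : k < 10 := by omega
    rw [prodFrom_succ hk']
    exact le_trans (card_stab_le_orb k) (Nat.mul_le_mul (card_orbK_le hk') (ih (k + 1) (by omega)))

theorem card_stab : ∀ k ≤ 10, Nat.card (stabK k) = prodFrom k := by
  intro k hk
  induction k with
  | zero =>
    have : stabK 0 = ⊤ := eq_top_iff.2 fun g _ j hj => absurd hj (Nat.not_lt_zero j)
    rw [this, Subgroup.card_top, card_fi23]
    decide +kernel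
  | succ k ih =>
    have hk' : k < 10 := by omega
    refine le_antisymm (card_stab_le (10 - (k + 1)) _ (by omega)) ?_
    have h1 := card_stab_le_orb k
    rw [ih (by omega), prodFrom_succ hk'] at h1
    have h2 : sizeL.getD k 0 * prodFrom (k + 1) ≤ sizeL.getD k 0 * Nat.card (stabK (k + 1)) :=
      le_trans h1 (Nat.mul_le_mul_right _ (card_orbK_le hk'))
    exact Nat.le_of_mul_le_mul_left h2
      ((by decide +kernel : ∀ k < 10, 0 < sizeL.getD k 0) k hk')

/-- The stabilizers are transitive on the candidates. -/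
theorem mem_orbK {k : ℕ} (hk : k < 10) {q : Fin FiTwentyThree.data.N}
    (hq : candOK (ordL.take k) (ordL.getD k 0) q = true) : q ∈ orbK k := by
  classical
  by_contra hn
  have h1 : (insert q (orbK k)).card ≤ sizeL.getD k 0 := by
    refine card_cand_le hk _ fun p hp => ?_
    rcases Finset.mem_insert.1 hp with rfl | hp
    · exact hq
    · exact orbK_cand hk hp
  rw [Finset.card_insert_of_notMem hn] at h1
  have h2 := card_stab_le_orb k
  rw [card_stab k hk.le, card_stab (k + 1) hk, prodFrom_succ hk] at h2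
  have h3 : 0 < prodFrom (k + 1) := (by decide +kernel : ∀ k < 10, 0 < prodFrom (k + 1)) k hk
  have := Nat.le_of_mul_le_mul_right h2 h3
  omega

/-- An automorphism preserving the transpositions is inner. -/
theorem inner_of_preserves (β : MulAut Cfsg.Spor.Fi23) (hβ : ∀ p, ∃ q, β (tp p) = tp q) :
    β ∈ Cfsg.Inn Cfsg.Spor.Fi23 := by
  have step : ∀ k ≤ 10, ∃ g : Cfsg.Spor.Fi23, ∀ j < k, β (tp (gpt j)) = g * tp (gpt j) * g⁻¹ := by
    intro k hk
    induction k with
    | zero => exact ⟨1, fun j hj => absurd hj (Nat.not_lt_zero j)⟩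
    | succ k ih =>
      obtain ⟨g, hg⟩ := ih (by omega)
      obtain ⟨q, hq⟩ := hβ (gpt k)
      have hq' : g⁻¹ * β (tp (gpt k)) * g = tp (rep g⁻¹ q) := by
        rw [hq, ← tp_conj, inv_inv]
      have hcand := cand_of_aut (β.trans (MulAut.conj g⁻¹)) (show k < 10 by omega)
        (fun j hj => by
          show g⁻¹ * β (tp (gpt j)) * g⁻¹⁻¹ = _
          rw [hg j hj]; group)
        (q := rep g⁻¹ q) (by
          show g⁻¹ * β (tp (gpt k)) * g⁻¹⁻¹ = _
          rw [inv_inv, hq'])
      classical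
      obtain ⟨h, hh, hhq⟩ := (Finset.mem_filter.1 (mem_orbK (show k < 10 by omega) hcand)).2
      refine ⟨g * h, fun j hj => ?_⟩
      have e1 : g * h * tp (gpt j) * (g * h)⁻¹ = g * (h * tp (gpt j) * h⁻¹) * g⁻¹ := by group
      rw [e1, tp_conj]
      rcases Nat.lt_succ_iff_lt_or_eq.1 hj with h' | h'
      · rw [hh j h', hg j h']
      · subst h'
        rw [hhq, ← hq']
        group
  obtain ⟨g, hg⟩ := step 10 le_rfl
  refine ⟨g, ?_⟩
  have hhom : (MulAut.conj g).toMonoidHom = β.toMonoidHom := by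
    refine PresentedGroup.ext fun a => ?_
    obtain ⟨c1, c2, c3⟩ := FiTwentyThree.valid.allCode a
    have h2 : FiTwentyThree.data.code a ≤ 10 :=
      le_trans c2 (by decide +kernel)
    obtain ⟨j, hj, hja⟩ : ∃ j < 10, ordL.getD j 0 = FiTwentyThree.data.code a := by
      cases a <;> decide +kernel
    have hv : val23 [FiTwentyThree.data.code a] = (PresentedGroup.of a : Cfsg.Spor.Fi23) := by
      obtain ⟨m, hm⟩ : ∃ m, FiTwentyThree.data.code a = m + 1 := ⟨FiTwentyThree.data.code a - 1, by omega⟩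
      rw [hm] at c3 ⊢
      simp only [Nat.add_sub_cancel] at c3
      simp [val23, pval, PresData.act, c3, PresData.lval]
    have hp : (⟨gp (FiTwentyThree.data.code a), gp_lt _⟩ : Fin FiTwentyThree.data.N) = gpt j :=
      Fin.ext (by rw [← hja]; rfl)
    show g * PresentedGroup.of a * g⁻¹ = β (PresentedGroup.of a)
    rw [← hv, letter_eq_tp c1 h2, hp, hg j hj]
  exact MulEquiv.ext fun x => DFunLike.congr_fun hhom x

/-- Linear extension of a conjugation rule. -/
theorem conj_evE {x : Cfsg.Spor.Fi23} {m : List ℕ}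
    (h : ∀ j < 11, x * eFi j = evE eFi 11 (m.getD j 0) * x) :
    ∀ n ≤ 11, ∀ v, x * evE eFi n v = evE eFi 11 (appV m n v) * x := by
  intro n hn v
  induction n with
  | zero => simp [evE, appV]
  | succ n ih =>
    show x * (evE eFi n v * cond (v.testBit n) (eFi n) 1) =
      evE eFi 11 (appV m n v ^^^ cond (v.testBit n) (m.getD n 0) 0) * x
    rw [← mul_assoc, ih (by omega), ← evE_mul rels 11 le_rfl]
    cases v.testBit n
    · simp [evE_zero]
    · simp only [cond_true]
      rw [mul_assoc, h n (by omega), ← mul_assoc]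

theorem orb_conj {v : ℕ} {L : List (ℕ × ℕ × ℕ)} (h : orbOK v L = true) :
    ∀ i < L.length, IsConj (evE eFi 11 v) (evE eFi 11 (L.getD i (0, 0, 0)).1) := by
  intro i
  induction i using Nat.strong_induction_on with
  | _ i ih =>
    intro hi
    have h' := List.all_eq_true.1 h i (List.mem_range.2 hi)
    by_cases h0 : i = 0
    · subst h0
      simp only [Nat.beq_refl, cond_true] at h'
      rw [Nat.eq_of_beq_eq_true h']
    have hb : Nat.beq i 0 = false := by
      cases h'' : Nat.beq i 0
      · rfl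
      · exact absurd (Nat.eq_of_beq_eq_true h'') h0
    simp only [hb, cond_false, Bool.and_eq_true] at h'
    obtain ⟨hp, hk, happ⟩ := h'
    set k := (L.getD i (0, 0, 0)).2.2
    set p := (L.getD i (0, 0, 0)).2.1
    have hp' : p < i := Nat.le_of_ble_eq_true hp
    have hk' : k < allMats.length := Nat.le_of_ble_eq_true hk
    refine (ih p hp' (hp'.trans hi)).trans ?_
    obtain ⟨x, hx⟩ : ∃ x, ∀ j < 11, x * eFi j = evE eFi 11 ((allMats.getD k []).getD j 0) * x := by
      by_cases hk7 : k < 7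
      · refine ⟨sFi k, fun j hj => ?_⟩
        rw [(by decide +kernel : ∀ k < 7, allMats.getD k [] = mats.getD k []) k hk7]
        exact rels.act k hk7 j hj
      · refine ⟨val23 (extraT.getD (k - 7) []), fun j hj => ?_⟩
        obtain ⟨hk8, hext⟩ := (by decide +kernel : ∀ k < allMats.length, ¬ k < 7 →
          k - 7 < extraT.length ∧ allMats.getD k [] = extraMats.getD (k - 7) []) k hk' hk7
        rw [hext]
        have hx := List.all_eq_true.1 extra_ok (k - 7) (List.mem_range.2 hk8)
        rw [Bool.and_eq_true] at hx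
        have hx2 := List.all_eq_true.1 hx.2 j (List.mem_range.2 hj)
        rw [Bool.and_eq_true] at hx2
        rw [eFi, ← val23_evW, ← val23_append, ← val23_append,
          val23_eq_iff (lettersB_append (trW_letters j) hx.1) (lettersB_append hx.1 (evW_letters _ _))]
        exact hx2.2
    refine isConj_iff.2 ⟨x, ?_⟩
    rw [conj_evE hx 11 le_rfl, mul_inv_cancel_right, Nat.eq_of_beq_eq_true happ]

theorem evE_vec_conj : IsConj z23 (evE eFi 11 vecT) := by
  refine isConj_iff.2 ⟨val23 vecPath, ?_⟩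
  rw [mul_inv_eq_iff_eq_mul, z23, ← val23_evW, ← val23_append, ← val23_append,
    val23_eq_iff (lettersB_append (by decide +kernel) vec_path.1)
      (lettersB_append vec_path.1 (evW_letters _ _))]
  exact vec_path.2

theorem eMask_testBit {p : Fin FiTwentyThree.data.N}
    (h : ∀ j < 11, rep (eFi j) p = p) : eMask.testBit p = true := by
  have key : ∀ (j : ℕ) (l : ℕ), j < 5 → trW j = [l] → l ∈ [1, 3, 5, 7, 8, 9, 10, 6, 4] →
      (fixMask l).testBit p = true := by
    intro j l hj hl hlm
    rw [mask_ok hlm p.2]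
    have h1 := rep_run (trW_letters j) p
    rw [show val23 (trW j) = eFi j from rfl, h j (by omega), hl] at h1
    rw [show FiTwentyThree.data.look l p = p from h1.symm]
    exact Nat.beq_refl _
  have e := eFi_letters
  simp only [List.range_succ, List.range_zero, List.nil_append, List.cons_append, List.map_cons,
    List.map_nil, List.cons.injEq, and_true] at e
  obtain ⟨e0, e1, e2, e3, e4⟩ := e
  show (fixMask 1 &&& (fixMask 3 &&& (fixMask 5 &&& (fixMask 7 &&& fixMask 10)))).testBit p = true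
  simp only [Nat.testBit_land, Bool.and_eq_true]
  exact ⟨key 0 1 (by omega) e0 (by decide), key 1 3 (by omega) e1 (by decide),
    key 2 5 (by omega) e2 (by decide), key 3 7 (by omega) e3 (by decide),
    key 4 10 (by omega) e4 (by decide)⟩

/-- At most 23 members of the transposition class lie in `E`. -/
theorem orb_absurd {v : ℕ} {L : List (ℕ × ℕ × ℕ)} (h : orbOK v L = true)
    (hnd : (L.map Prod.fst).Nodup) (hlen : L.length = 24) (hlt : ∀ t ∈ L, t.1 < 2048)
    (β : MulAut Cfsg.Spor.Fi23) (hE : ∀ x ∈ pcSub eFi sFi 0, β x ∈ pcSub eFi sFi 0)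
    (hv : β (evE eFi 11 v) = evE eFi 11 vecT) : False := by
  classical
  have hclass : ∀ i : Fin L.length, ∃ p : Fin FiTwentyThree.data.N,
      β (evE eFi 11 (L.getD i (0, 0, 0)).1) = tp p ∧ eMask.testBit p = true := by
    intro i
    have h1 : IsConj z23 (β (evE eFi 11 (L.getD i (0, 0, 0)).1)) := by
      refine evE_vec_conj.trans ?_
      rw [← hv]
      exact (β.toMonoidHom).map_isConj (orb_conj h i i.2)
    obtain ⟨g, hg⟩ := isConj_iff.1 h1
    refine ⟨rep g pt0, ?_, ?_⟩
    · rw [tp_eq rfl, hg]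
    obtain ⟨u, -, hu⟩ := mem_pcSub_zero rels (hE _ (evE_mem eFi sFi 0 11 le_rfl (L.getD i (0, 0, 0)).1))
    refine eMask_testBit fun j hj => ?_
    have hc := (commute_evE rels hj 11 le_rfl u).eq
    rw [← hu, ← hg, ← tp_eq rfl] at hc
    have := tp_conj (eFi j) (rep g pt0)
    rw [hc, mul_inv_cancel_right] at this
    exact (tp_injective this).symm
  choose f hf1 hf2 using hclass
  have hfinj : Function.Injective f := by
    intro i i' he
    have h1 : β (evE eFi 11 (L.getD i (0, 0, 0)).1) = β (evE eFi 11 (L.getD i' (0, 0, 0)).1) := by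
      rw [hf1, hf1, he]
    rw [List.getD_eq_getElem _ _ i.2, List.getD_eq_getElem _ _ i'.2] at h1
    have h2 := einj _ _ (hlt _ (List.getElem_mem i.2)) (hlt _ (List.getElem_mem i'.2))
      (β.injective h1)
    refine Fin.ext ?_
    have h3 : (L.map Prod.fst)[(i : ℕ)]'(by simp) = (L.map Prod.fst)[(i' : ℕ)]'(by simp) := by
      simp [h2]
    exact (hnd.getElem_inj_iff).1 h3
  have hle := card_le_popB eMask eMask_count.1 (Finset.univ.image f) (fun p hp => by
    obtain ⟨i, -, rfl⟩ := Finset.mem_image.1 hp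
    exact hf2 i)
  rw [Finset.card_image_of_injective _ hfinj, eMask_count.2, Finset.card_univ, Fintype.card_fin,
    hlen] at hle
  omega

/-- Every automorphism preserves the transpositions. -/
theorem preserves (α : MulAut Cfsg.Spor.Fi23) (p : Fin FiTwentyThree.data.N) :
    ∃ q, α (tp p) = tp q := by
  have hfin := fi_finite
  have hfact : Fact (Nat.Prime 2) := ⟨Nat.prime_two⟩
  set Q := pcSub eFi sFi 7 with hQ
  set Q' := Q.map α.toMonoidHom with hQ'
  have hinj : Function.Injective α.toMonoidHom := α.injective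
  have hc' : Nat.card Q' = 2 ^ 18 := by
    rw [hQ', Subgroup.card_map_of_injective hinj, hQ, sylow_structure.1]
  have hidx : ¬ 2 ∣ Q'.index := by
    have h := Q'.card_mul_index
    rw [hc', card_fi23] at h
    have : Q'.index = 15600091832325 := by norm_num at h ⊢; omega
    rw [this]; norm_num
  obtain ⟨g, hg⟩ := exists_conj ((IsPGroup.of_card hc').toSylow hidx)
  have hg' : Q.map (MulAut.conj g).toMonoidHom = Q' := hg
  set β : MulAut Cfsg.Spor.Fi23 := α.trans (MulAut.conj g⁻¹) with hβ
  have hβQ : Q.map β.toMonoidHom = Q := by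
    have e : β.toMonoidHom = (MulAut.conj g⁻¹).toMonoidHom.comp α.toMonoidHom := rfl
    rw [e, ← Subgroup.map_map, ← hQ', ← hg', Subgroup.map_map]
    have e2 : (MulAut.conj g⁻¹).toMonoidHom.comp (MulAut.conj g).toMonoidHom = MonoidHom.id _ := by
      refine MonoidHom.ext fun x => ?_
      show g⁻¹ * (g * x * g⁻¹) * g⁻¹⁻¹ = x
      group
    rw [e2, Subgroup.map_id]
  set E := pcSub eFi sFi 0 with hEdef
  have hE : E.map β.toMonoidHom = E := by
    have h := (card_elementary_le rels facts einj (A := E.map β.toMonoidHom)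
      ((Subgroup.map_mono (pcSub_mono eFi sFi (Nat.zero_le 7))).trans hβQ.le) ?_ ?_).2
    · refine h ?_
      rw [Subgroup.card_map_of_injective (show Function.Injective β.toMonoidHom from β.injective),
        sylow_structure.2]
    · rintro _ ⟨a, ha, rfl⟩ _ ⟨b, hb, rfl⟩
      obtain ⟨u, -, rfl⟩ := mem_pcSub_zero rels ha
      obtain ⟨v, -, rfl⟩ := mem_pcSub_zero rels hb
      rw [← map_mul, ← map_mul, evE_mul rels 11 le_rfl, evE_mul rels 11 le_rfl, Nat.xor_comm]
    · rintro _ ⟨a, ha, rfl⟩
      obtain ⟨u, -, rfl⟩ := mem_pcSub_zero rels ha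
      rw [← map_mul, evE_mul rels 11 le_rfl, Nat.xor_self, evE_zero, map_one]
  obtain ⟨u, hu, hu4⟩ : ∃ u < 2 ^ 11, β (evE eFi 11 vecT) = evE eFi 11 u :=
    mem_pcSub_zero rels (hE.le (Subgroup.mem_map_of_mem β.toMonoidHom (evE_mem eFi sFi 0 11 le_rfl vecT)))
  have hfix : ∀ k < 7, appV (mats.getD k []) 11 u = u := by
    intro k hk
    have hs : sFi k ∈ Q.map β.toMonoidHom := hβQ.symm ▸ s_mem eFi sFi hk
    obtain ⟨x, hx, hxk⟩ := hs
    have hcent : x * evE eFi 11 vecT = evE eFi 11 vecT * x := by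
      have hle : Q ≤ Subgroup.centralizer {evE eFi 11 vecT} := by
        rw [hQ, pcSub, Subgroup.closure_le]
        rintro _ (⟨j, hj, rfl⟩ | ⟨j, hj, rfl⟩)
        · exact Subgroup.mem_centralizer_singleton_iff.2 (commute_evE rels hj 11 le_rfl vecT).eq
        · refine Subgroup.mem_centralizer_singleton_iff.2 ?_
          rw [s_mul_evE rels hj 11 le_rfl,
            vecT_fixed j hj]
      exact Subgroup.mem_centralizer_singleton_iff.1 (hle hx)
    have h1 : β x * β (evE eFi 11 vecT) = β (evE eFi 11 vecT) * β x := by rw [← map_mul, ← map_mul, hcent]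
    rw [show β x = sFi k from hxk, hu4, s_mul_evE rels hk 11 le_rfl] at h1
    exact (einj _ _ hu (appV_lt rels hk 11 le_rfl u) (mul_right_cancel h1).symm).symm
  have hu0 : u ≠ 0 := by
    intro h
    rw [h, evE_zero, ← map_one β] at hu4
    have h' := β.injective hu4
    rw [← evE_zero eFi 11] at h'
    exact absurd (einj _ _ (by decide +kernel) (by norm_num) h') (by decide +kernel)
  have hu' : u = 15 ∨ u = 369 ∨ u = vecT := by
    have h := allB_spec_zero fixed_vecs le_rfl hu
    rw [Bool.or_eq_true, Bool.not_eq_true'] at h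
    rcases h with h | h
    · have hall : ((List.range 7).all fun k => Nat.beq (appV (mats.getD k []) 11 u) u) = true :=
        List.all_eq_true.2 fun k hk => by rw [hfix k (List.mem_range.1 hk)]; exact Nat.beq_refl _
      rw [hall] at h
      exact Bool.noConfusion h
    · obtain ⟨z, hz, hz'⟩ := List.any_eq_true.1 h
      have := Nat.eq_of_beq_eq_true hz'
      subst this
      simp only [List.mem_cons, List.not_mem_nil, or_false] at hz
      rcases hz with rfl | rfl | rfl | rfl
      · exact absurd rfl hu0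
      · exact Or.inl rfl
      · exact Or.inr (Or.inl rfl)
      · exact Or.inr (Or.inr rfl)
  have hEsymm : ∀ x ∈ E, β.symm x ∈ E := by
    intro x hx
    rw [← hE] at hx
    obtain ⟨y, hy, rfl⟩ := hx
    show β.symm (β y) ∈ E
    rwa [MulEquiv.symm_apply_apply]
  have hu44 : u = vecT := by
    have hback : β.symm (evE eFi 11 u) = evE eFi 11 vecT := by rw [← hu4, MulEquiv.symm_apply_apply]
    rcases hu' with h | h | h
    · subst h
      exact (orb_absurd orb_u.1 orb_u.2.1 orb_u.2.2.1 orb_u.2.2.2 β.symm hEsymm hback).elim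
    · subst h
      exact (orb_absurd orb_v.1 orb_v.2.1 orb_v.2.2.1 orb_v.2.2.2 β.symm hEsymm hback).elim
    · exact h
  have h4 : IsConj z23 (α (evE eFi 11 vecT)) := by
    refine evE_vec_conj.trans (isConj_iff.2 ⟨g, ?_⟩)
    have h1 : g⁻¹ * α (evE eFi 11 vecT) * g⁻¹⁻¹ = evE eFi 11 vecT := by
      have := hu4
      rw [hu44] at this
      exact this
    calc g * evE eFi 11 vecT * g⁻¹ = g * (g⁻¹ * α (evE eFi 11 vecT) * g⁻¹⁻¹) * g⁻¹ := by rw [h1]
      _ = α (evE eFi 11 vecT) := by group
  have hz : IsConj z23 (α (tp p)) := by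
    refine h4.trans (α.toMonoidHom.map_isConj ?_)
    refine evE_vec_conj.symm.trans (isConj_iff.2 ?_)
    exact ⟨(exists_move p).choose, rfl⟩
  obtain ⟨c, hc⟩ := isConj_iff.1 hz
  exact ⟨rep c pt0, by rw [tp_eq rfl, hc]⟩

/-- **`Out(Fi23) = 1`.** -/
theorem card_out : Nat.card (Cfsg.Out Cfsg.Spor.Fi23) = 1 := by
  have h : Cfsg.Inn Cfsg.Spor.Fi23 = ⊤ :=
    eq_top_iff.2 fun α _ => inner_of_preserves α (preserves α)
  show (Cfsg.Inn Cfsg.Spor.Fi23).index = 1
  rw [h, Subgroup.index_top]

end Cfsg.Agent.FiSylow
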