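import Cfsg.Agent.FiSylow.Transp

/-!
# Counting the points with a prescribed commuting pattern
-/

set_option autoImplicit false
set_option maxRecDepth 100000
set_option Elab.async false

namespace Cfsg.Agent.FiSylow

open Cfsg.Agent.CosetCert Cfsg.Agent.CosetEnum

/-- The number of set bits of a number below `2 ^ 2 ^ d`. -/
noncomputable def popB (d : ℕ) : ℕ → ℕ :=
  Nat.rec (motive := fun _ => ℕ → ℕ) (fun x => cond (Nat.beq x 0) 0 1)
    (fun k ih x => cond (Nat.beq x 0) 0
      (Nat.add (ih (Nat.mod x (Nat.pow 2 (Nat.pow 2 k)))) (ih (Nat.shiftRight x (Nat.pow 2 k))))) d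

theorem popB_spec : ∀ d x, x < 2 ^ (2 ^ d) →
    popB d x = ((Finset.range (2 ^ d)).filter fun i => x.testBit i = true).card := by
  intro d
  induction d with
  | zero =>
    intro x hx
    have hx' : x = 0 ∨ x = 1 := by norm_num at hx; omega
    rcases hx' with rfl | rfl
    · simp [popB]
    · show cond (Nat.beq 1 0) 0 1 = _
      simp [Finset.filter_singleton]
      rfl
  | succ k ih =>
    intro x hx
    show cond (Nat.beq x 0) 0 (popB k (x % 2 ^ (2 ^ k)) + popB k (x >>> (2 ^ k))) = _
    cases h : Nat.beq x 0
    · rw [cond_false]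
      have hx2 : x >>> (2 ^ k) < 2 ^ (2 ^ k) := by
        rw [Nat.shiftRight_eq_div_pow, Nat.div_lt_iff_lt_mul (by positivity), ← pow_add]
        rwa [show 2 ^ k + 2 ^ k = 2 ^ (k + 1) by ring]
      rw [ih _ (Nat.mod_lt _ (by positivity)), ih _ hx2, show 2 ^ (k + 1) = 2 ^ k + 2 ^ k by ring,
        Finset.range_add, Finset.filter_union, Finset.card_union_of_disjoint, Finset.filter_map,
        Finset.card_map]
      · congr 1
        · refine congrArg Finset.card (Finset.filter_congr fun i hi => ?_)
          rw [Nat.testBit_mod_two_pow]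
          simp [Finset.mem_range.1 hi]
        · refine congrArg Finset.card (Finset.filter_congr fun i hi => ?_)
          simp [Nat.testBit_shiftRight]
      · exact (Finset.disjoint_range_addLeftEmbedding _ _).mono (Finset.filter_subset _ _)
          (Finset.filter_subset _ _)
    · rw [cond_true, Nat.eq_of_beq_eq_true h]
      simp

/-- Points below `N` with bit set in `x` number at most `popB 15 x`. -/
theorem card_le_popB (x : ℕ) (hx : x < 2 ^ (2 ^ 15)) (S : Finset (Fin FiTwentyThree.data.N))
    (hS : ∀ p ∈ S, x.testBit p = true) : S.card ≤ popB 15 x := by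
  rw [popB_spec 15 x hx, ← Finset.card_map Fin.valEmbedding]
  refine Finset.card_le_card fun y hy => ?_
  obtain ⟨p, hp, rfl⟩ := Finset.mem_map.1 hy
  exact Finset.mem_filter.2 ⟨Finset.mem_range.2 (lt_of_lt_of_le p.2 (by decide +kernel)), hS p hp⟩

/-- The order in which the generators are fixed. -/
def ordL : List ℕ := [1, 3, 5, 7, 8, 9, 10, 6, 4, 2]

/-- The numbers of candidates. -/
def sizeL : List ℕ := [31671, 3510, 693, 180, 128, 12, 8, 6, 2, 2]

/-- The point of a letter. -/
def gp (l : ℕ) : ℕ := genPts.getD l 0

/-- A candidate for the image of `l` once the letters `ms` are fixed. -/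
noncomputable def candOK (ms : List ℕ) (l p : ℕ) : Bool :=
  Nat.blt p FiTwentyThree.data.N && ms.all fun m =>
    !(Nat.beq p (gp m)) &&
      (Nat.beq (FiTwentyThree.data.look m p) p == Nat.beq (FiTwentyThree.data.look m (gp l)) (gp l))

/-- All points. -/
noncomputable def allMask : ℕ := Nat.sub (Nat.pow 2 31671) 1

/-- The candidates, as bits. -/
noncomputable def candMask (l : ℕ) (ms : List ℕ) : ℕ :=
  List.rec (motive := fun _ => ℕ) allMask
    (fun m _ ih => Nat.land ih
      (Nat.land (cond (Nat.beq (FiTwentyThree.data.look m (gp l)) (gp l)) (fixMask m) (Nat.xor allMask (fixMask m)))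
        (Nat.xor allMask (Nat.pow 2 (gp m))))) ms

theorem cand_count :
    (List.range 10).all (fun k =>
      Nat.blt (candMask (ordL.getD k 0) (ordL.take k)) (Nat.pow 2 32768) &&
      Nat.beq (popB 15 (candMask (ordL.getD k 0) (ordL.take k))) (sizeL.getD k 0)) = true := by
  decide +kernel

/-- The bits of the nine fixed-point masks are correct at one point. -/
noncomputable def maskOK (p : ℕ) : Bool :=
  Nat.ble FiTwentyThree.data.N p ||
    [1, 3, 5, 7, 8, 9, 10, 6, 4].all fun m => (fixMask m).testBit p == Nat.beq (FiTwentyThree.data.look m p) p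

theorem mask_ok0 : allB maskOK 12 0 = true := by decide +kernel

theorem mask_ok1 : allB maskOK 12 4096 = true := by decide +kernel

theorem mask_ok2 : allB maskOK 12 8192 = true := by decide +kernel

theorem mask_ok3 : allB maskOK 12 12288 = true := by decide +kernel

theorem mask_ok4 : allB maskOK 12 16384 = true := by decide +kernel

theorem mask_ok5 : allB maskOK 12 20480 = true := by decide +kernel

theorem mask_ok6 : allB maskOK 12 24576 = true := by decide +kernel

theorem mask_ok7 : allB maskOK 12 28672 = true := by decide +kernel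

theorem mask_ok {m : ℕ} (hm : m ∈ [1, 3, 5, 7, 8, 9, 10, 6, 4]) {p : ℕ} (hp : p < FiTwentyThree.data.N) :
    (fixMask m).testBit p = Nat.beq (FiTwentyThree.data.look m p) p := by
  have hp' : p < 32768 := lt_of_lt_of_le hp (by decide +kernel)
  have h : maskOK p = true := by
    rcases Nat.lt_or_ge p 4096 with h0 | h0
    · exact allB_spec mask_ok0 p (by omega) (by omega)
    rcases Nat.lt_or_ge p 8192 with h1 | h1
    · exact allB_spec mask_ok1 p (by omega) (by omega)
    rcases Nat.lt_or_ge p 12288 with h2 | h2
    · exact allB_spec mask_ok2 p (by omega) (by omega)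
    rcases Nat.lt_or_ge p 16384 with h3 | h3
    · exact allB_spec mask_ok3 p (by omega) (by omega)
    rcases Nat.lt_or_ge p 20480 with h4 | h4
    · exact allB_spec mask_ok4 p (by omega) (by omega)
    rcases Nat.lt_or_ge p 24576 with h5 | h5
    · exact allB_spec mask_ok5 p (by omega) (by omega)
    rcases Nat.lt_or_ge p 28672 with h6 | h6
    · exact allB_spec mask_ok6 p (by omega) (by omega)
    rcases Nat.lt_or_ge p 32768 with h7 | h7
    · exact allB_spec mask_ok7 p (by omega) (by omega)
    omega
  exact eq_of_beq (List.all_eq_true.1 (of_ble_or h hp) m hm)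

theorem allMask_testBit {p : ℕ} (hp : p < FiTwentyThree.data.N) : allMask.testBit p = true := by
  show (2 ^ 31671 - 1).testBit p = true
  rw [Nat.testBit_two_pow_sub_one]
  exact decide_eq_true (lt_of_lt_of_eq hp (by decide +kernel))

theorem candMask_testBit {l : ℕ} : ∀ ms : List ℕ, (∀ m ∈ ms, m ∈ [1, 3, 5, 7, 8, 9, 10, 6, 4]) →
    ∀ {p : ℕ}, p < FiTwentyThree.data.N → candOK ms l p = true → (candMask l ms).testBit p = true := by
  intro ms
  induction ms with
  | nil => intro _ p hp _; exact allMask_testBit hp
  | cons m ms ih =>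
    intro hms p hp hc
    simp only [candOK, List.all_cons, Bool.and_eq_true] at hc
    obtain ⟨hpN, ⟨hne, hpat⟩, hrest⟩ := hc
    show (candMask l ms &&&
      ((cond (Nat.beq (FiTwentyThree.data.look m (gp l)) (gp l)) (fixMask m) (allMask ^^^ fixMask m)) &&&
        (allMask ^^^ 2 ^ gp m))).testBit p = true
    rw [Nat.testBit_land, Nat.testBit_land, Bool.and_eq_true, Bool.and_eq_true]
    refine ⟨ih (fun m' hm' => hms m' (List.mem_cons_of_mem _ hm')) hp
      (by simp only [candOK, Bool.and_eq_true]; exact ⟨hpN, hrest⟩), ?_, ?_⟩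
    · have hbit := mask_ok (hms m List.mem_cons_self) hp
      have hpat' := eq_of_beq hpat
      cases h : Nat.beq (FiTwentyThree.data.look m (gp l)) (gp l)
      · rw [cond_false, Nat.testBit_xor, allMask_testBit hp, hbit, hpat', h]
        rfl
      · rw [cond_true, hbit, hpat', h]
    · rw [Nat.testBit_xor, allMask_testBit hp, Nat.testBit_two_pow]
      have hne' : gp m ≠ p := by
        intro e
        rw [e, Nat.beq_refl] at hne
        exact Bool.noConfusion hne
      simp [hne']

/-- The points commuting with five basis transpositions. -/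
noncomputable def eMask : ℕ :=
  Nat.land (fixMask 1) (Nat.land (fixMask 3) (Nat.land (fixMask 5) (Nat.land (fixMask 7) (fixMask 10))))

theorem eMask_count : eMask < Nat.pow 2 32768 ∧ popB 15 eMask = 23 := by decide +kernel

theorem eFi_letters : (List.range 5).map trW = [[1], [3], [5], [7], [10]] := by decide +kernel

theorem vec_path : lettersB vecPath = true ∧ sameB (zW ++ vecPath) (vecPath ++ evW 11 vecT) = true := by
  decide +kernel

theorem gen_paths : (List.range 11).all (fun l => Nat.beq l 0 ||
    (lettersB (genPaths.getD l []) && (Nat.beq (FiTwentyThree.data.run (genPaths.getD l []) 0) (gp l) &&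
      sameB (zW ++ genPaths.getD l []) (genPaths.getD l [] ++ [l])))) = true := by
  decide +kernel

theorem extra_ok : (List.range extraT.length).all (fun k => lettersB (extraT.getD k []) &&
    ((List.range 11).all fun j =>
      Nat.blt ((extraMats.getD k []).getD j 0) 2048 &&
        sameB (trW j ++ extraT.getD k []) (extraT.getD k [] ++ evW 11 ((extraMats.getD k []).getD j 0)))) = true := by
  decide +kernel

/-- All the matrices used for the orbits. -/
def allMats : List (List ℕ) := mats ++ extraMats

/-- An orbit list is legitimate. -/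
noncomputable def orbOK (v : ℕ) (L : List (ℕ × ℕ × ℕ)) : Bool :=
  (List.range L.length).all fun i => cond (Nat.beq i 0) (Nat.beq (L.getD i (0, 0, 0)).1 v)
    (Nat.blt (L.getD i (0, 0, 0)).2.1 i && (Nat.blt (L.getD i (0, 0, 0)).2.2 allMats.length &&
      Nat.beq (appV (allMats.getD (L.getD i (0, 0, 0)).2.2 []) 11 (L.getD (L.getD i (0, 0, 0)).2.1 (0, 0, 0)).1)
        (L.getD i (0, 0, 0)).1))

theorem orb_u : orbOK 15 orbU = true ∧ (orbU.map Prod.fst).Nodup ∧ orbU.length = 24 ∧
    ∀ t ∈ orbU, t.1 < 2048 := by
  decide +kernel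

theorem orb_v : orbOK 369 orbV = true ∧ (orbV.map Prod.fst).Nodup ∧ orbV.length = 24 ∧
    ∀ t ∈ orbV, t.1 < 2048 := by
  decide +kernel

theorem fixed_vecs : allB (fun v => !((List.range 7).all fun k => Nat.beq (appV (mats.getD k []) 11 v) v) ||
    [0, 15, 369, 382].any (Nat.beq v)) 11 0 = true := by
  decide +kernel

theorem vecT_fixed : ∀ j < 7, appV (mats.getD j []) 11 vecT = vecT := by decide +kernel

end Cfsg.Agent.FiSylow
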