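import Cfsg.Agent.FiSylow.Fi
import Cfsg.Agent.CosetEnum.FiTwentyThree.Centre
import Cfsg.Agent.FiSylow.OutData

/-!
# The 31671 transpositions of the presented Fi23
-/

set_option autoImplicit false
set_option maxRecDepth 100000
set_option Elab.async false

namespace Cfsg.Agent.FiSylow

open Cfsg.Agent.CosetCert Cfsg.Agent.CosetEnum

/-- The word of the first transposition. -/
def zW : List ℕ := (List.replicate 9 [9, 7, 6, 5, 4, 3, 2]).flatten

/-- The first transposition. -/
noncomputable def z23 : Cfsg.Spor.Fi23 := val23 zW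

theorem z23_comm {g : Cfsg.Spor.Fi23} (hg : g ∈ ptSub) : g * z23 = z23 * g := by
  have hchk : FiTwentyThree.data.subs.all
      (fun u => lettersB u && sameB (zW ++ u) (u ++ zW)) = true := by decide +kernel
  have hle : ptSub ≤ Subgroup.centralizer {z23} := by
    rw [ptSub, Subgroup.map_le_iff_le_comap, Subgroup.closure_le]
    intro r hr
    obtain ⟨u, hu, rfl⟩ := FiTwentyThree.valid.le_subs r hr
    have h := List.all_eq_true.1 hchk u hu
    rw [Bool.and_eq_true] at h
    show PresentedGroup.mk _ (pval (FiTwentyThree.data.act FreeGroup.of) u) ∈ Subgroup.centralizer {z23}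
    rw [PresData.map_pval, Subgroup.mem_centralizer_singleton_iff]
    show val23 u * z23 = z23 * val23 u
    rw [z23, ← val23_append, ← val23_append,
      val23_eq_iff (lettersB_append (by decide +kernel) h.1) (lettersB_append h.1 (by decide +kernel))]
    exact h.2
  exact Subgroup.mem_centralizer_singleton_iff.1 (hle hg)

theorem z23_apply (i : Fin FiTwentyThree.data.N) :
    (rep z23 i : ℕ) = Cfsg.Agent.CosetEnum.FiTwentyThree.centTab.get 32 i := by
  have hpow : ∀ n, val23 ((List.replicate n [9, 7, 6, 5, 4, 3, 2]).flatten) =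
      val23 [9, 7, 6, 5, 4, 3, 2] ^ n := by
    intro n
    induction n with
    | zero => rfl
    | succ n ih => rw [List.replicate_succ, List.flatten_cons, val23_append, ih, pow_succ]
  have key : ∀ n, ((rep (val23 [9, 7, 6, 5, 4, 3, 2]) ^ n) i : ℕ) =
      SimpleData.iterWord FiTwentyThree.data [9, 7, 6, 5, 4, 3, 2] n i := by
    intro n
    induction n with
    | zero => rfl
    | succ n ih =>
      rw [pow_succ', Equiv.Perm.mul_apply, rep_run (by decide +kernel), ih]
      rfl
  have hc := Cfsg.Agent.CosetEnum.FiTwentyThree.cent_all i i.2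
  simp only [Bool.and_eq_true] at hc
  rw [z23, zW, hpow, map_pow, key,
    (iterWord_eq_tblPow _ _ Cfsg.Agent.CosetEnum.FiTwentyThree.centBase (fun j hj => by
      have h := Cfsg.Agent.CosetEnum.FiTwentyThree.cent_all j hj
      simp only [Bool.and_eq_true] at h
      exact h.1) 9 i i.2).1]
  exact Nat.eq_of_beq_eq_true hc.2.1

/-- The transposition of a point. -/
noncomputable def tp (p : Fin FiTwentyThree.data.N) : Cfsg.Spor.Fi23 :=
  (exists_move p).choose * z23 * (exists_move p).choose⁻¹

theorem tp_eq {g : Cfsg.Spor.Fi23} {p : Fin FiTwentyThree.data.N} (h : rep g pt0 = p) :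
    tp p = g * z23 * g⁻¹ := by
  have hmem : g⁻¹ * (exists_move p).choose ∈ ptSub := by
    refine mem_ptSub ?_
    rw [map_mul, Equiv.Perm.mul_apply, (exists_move p).choose_spec, map_inv, Equiv.Perm.inv_def,
      Equiv.symm_apply_eq, h]
  have hc := z23_comm hmem
  rw [tp]
  have e1 : (exists_move p).choose * z23 * (exists_move p).choose⁻¹ =
      g * ((g⁻¹ * (exists_move p).choose) * z23 * (g⁻¹ * (exists_move p).choose)⁻¹) * g⁻¹ := by group
  rw [e1, hc, mul_inv_cancel_right]

theorem tp_conj (g : Cfsg.Spor.Fi23) (p : Fin FiTwentyThree.data.N) :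
    g * tp p * g⁻¹ = tp (rep g p) := by
  rw [tp_eq (g := g * (exists_move p).choose) (p := rep g p)
    (by rw [map_mul, Equiv.Perm.mul_apply, (exists_move p).choose_spec]), tp]
  group

theorem tp_pt0 : tp pt0 = z23 := by
  rw [tp_eq (g := 1) (p := pt0) (by simp)]
  group

/-- A fixed point of the first transposition other than itself lies in the small suborbit. -/
noncomputable def fixOrbOK (p : ℕ) : Bool :=
  Nat.ble FiTwentyThree.data.N p ||
    (!(Nat.beq (Cfsg.Agent.CosetEnum.FiTwentyThree.centTab.get 32 p) p) || (Nat.beq p 0 ||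
      (Nat.ble 28161 (FiTwentyThree.rankT.get 32 p) && (Nat.blt (FiTwentyThree.rankT.get 32 p) 31671 &&
        Nat.beq (FiTwentyThree.ordT.get 32 (FiTwentyThree.rankT.get 32 p)) p))))

theorem fixOrb_ok0 : allB fixOrbOK 12 0 = true := by decide +kernel

theorem fixOrb_ok1 : allB fixOrbOK 12 4096 = true := by decide +kernel

theorem fixOrb_ok2 : allB fixOrbOK 12 8192 = true := by decide +kernel

theorem fixOrb_ok3 : allB fixOrbOK 12 12288 = true := by decide +kernel

theorem fixOrb_ok4 : allB fixOrbOK 12 16384 = true := by decide +kernel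

theorem fixOrb_ok5 : allB fixOrbOK 12 20480 = true := by decide +kernel

theorem fixOrb_ok6 : allB fixOrbOK 12 24576 = true := by decide +kernel

theorem fixOrb_ok7 : allB fixOrbOK 12 28672 = true := by decide +kernel

theorem fixOrb_ok {p : ℕ} (hp : p < 32768) : fixOrbOK p = true := by
  rcases Nat.lt_or_ge p 4096 with h | h
  · exact allB_spec fixOrb_ok0 p (by omega) (by omega)
  rcases Nat.lt_or_ge p 8192 with h1 | h1
  · exact allB_spec fixOrb_ok1 p (by omega) (by omega)
  rcases Nat.lt_or_ge p 12288 with h2 | h2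
  · exact allB_spec fixOrb_ok2 p (by omega) (by omega)
  rcases Nat.lt_or_ge p 16384 with h3 | h3
  · exact allB_spec fixOrb_ok3 p (by omega) (by omega)
  rcases Nat.lt_or_ge p 20480 with h4 | h4
  · exact allB_spec fixOrb_ok4 p (by omega) (by omega)
  rcases Nat.lt_or_ge p 24576 with h5 | h5
  · exact allB_spec fixOrb_ok5 p (by omega) (by omega)
  rcases Nat.lt_or_ge p 28672 with h6 | h6
  · exact allB_spec fixOrb_ok6 p (by omega) (by omega)
  rcases Nat.lt_or_ge p 32768 with h7 | h7
  · exact allB_spec fixOrb_ok7 p (by omega) (by omega)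
  omega

theorem orbit0_move : ∀ r, 28161 ≤ r → r < 31671 → ∀ (hr : FiTwentyThree.ordT.get 32 r < FiTwentyThree.data.N),
    ∃ h ∈ ptSub, rep h ⟨FiTwentyThree.ordT.get 32 28161, by decide +kernel⟩ = ⟨_, hr⟩ := by
  intro r
  induction r using Nat.strong_induction_on with
  | _ r ih =>
    intro h1 h2 hr
    by_cases he : r = 28161
    · subst he
      exact ⟨1, one_mem _, by simp⟩
    have h := FiTwentyThree.orbit0_valid.2 r h1 h2
    simp only [OrbitData.ok, FiTwentyThree.orbit0, Bool.and_eq_true, Bool.or_eq_true] at h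
    obtain ⟨-, -, -, h | ⟨hlo, hlt, hj, hrun⟩⟩ := h
    · exact absurd (Nat.eq_of_beq_eq_true h) he
    set p := Nat.div (FiTwentyThree.oparT.get 32 r) 256
    set j := Nat.mod (FiTwentyThree.oparT.get 32 r) 256
    have hp1 : 28161 ≤ p := Nat.le_of_ble_eq_true hlo
    have hp2 : p < r := Nat.le_of_ble_eq_true hlt
    have hpN : FiTwentyThree.ordT.get 32 p < FiTwentyThree.data.N := by
      have h' := FiTwentyThree.orbit0_valid.2 p hp1 (hp2.trans h2)
      simp only [OrbitData.ok, FiTwentyThree.orbit0, Bool.and_eq_true] at h'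
      exact Nat.le_of_ble_eq_true h'.1
    obtain ⟨g, hg, hgp⟩ := ih p hp2 hp1 (hp2.trans h2) hpN
    have hj' : j < FiTwentyThree.data.subs.length := Nat.le_of_ble_eq_true hj
    set u := FiTwentyThree.data.subs.getD j [] with hu
    have hmem : u ∈ FiTwentyThree.data.subs := by
      rw [hu, List.getD_eq_getElem _ _ hj']; exact List.getElem_mem hj'
    have hul : lettersB u = true :=
      List.all_eq_true.1 (by decide +kernel : FiTwentyThree.data.subs.all lettersB = true) u hmem
    refine ⟨val23 u * g, mul_mem ?_ hg, Fin.ext ?_⟩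
    · refine ⟨pval (FiTwentyThree.data.act FreeGroup.of) u,
        Subgroup.subset_closure (FiTwentyThree.valid.subs_le u hmem), ?_⟩
      rw [PresData.map_pval]
      rfl
    · rw [map_mul, Equiv.Perm.mul_apply, hgp, rep_run hul]
      exact Nat.eq_of_beq_eq_true hrun

/-- The path to the first point of the small suborbit. -/
def loPath : List ℕ := [8, 7, 6, 5, 4, 3, 9, 4, 5, 6, 7, 8]

theorem tp_eq_z23 {p : Fin FiTwentyThree.data.N} (h : tp p = z23) : p = pt0 := by
  have hfix : rep z23 p = p := by
    obtain ⟨g, hg⟩ := exists_move p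
    rw [← h, tp_eq hg, map_mul, map_mul, map_inv, ← hg, Equiv.Perm.mul_apply, Equiv.Perm.mul_apply,
      Equiv.Perm.inv_def, Equiv.symm_apply_apply]
    congr 1
    exact Fin.ext ((z23_apply pt0).trans (by decide +kernel))
  have hok := of_ble_or (fixOrb_ok (lt_of_lt_of_le p.2 (by decide +kernel))) p.2
  rw [← z23_apply, hfix] at hok
  simp only [Nat.beq_refl, Bool.not_true, Bool.false_or, Bool.or_eq_true, Bool.and_eq_true] at hok
  rcases hok with hok | ⟨h1, h2, h3⟩
  · exact Fin.ext (Nat.eq_of_beq_eq_true hok)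
  exfalso
  have h3' : FiTwentyThree.ordT.get 32 (FiTwentyThree.rankT.get 32 p) = p := Nat.eq_of_beq_eq_true h3
  obtain ⟨g, hg, hgp⟩ := orbit0_move _ (Nat.le_of_ble_eq_true h1) (Nat.le_of_ble_eq_true h2)
    (lt_of_eq_of_lt h3' p.2)
  have hp' : (⟨_, lt_of_eq_of_lt h3' p.2⟩ : Fin FiTwentyThree.data.N) = p := Fin.ext h3'
  rw [hp'] at hgp
  set q : Fin FiTwentyThree.data.N := ⟨FiTwentyThree.ordT.get 32 28161, by decide +kernel⟩
  have hq : tp q = z23 := by
    have := tp_conj g q
    rw [hgp, h] at this
    rw [mul_inv_eq_iff_eq_mul, ← z23_comm hg] at this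
    exact mul_left_cancel this
  have hlo : rep (val23 loPath) pt0 = q :=
    Fin.ext ((rep_run (by decide +kernel) pt0).trans (by decide +kernel))
  rw [tp_eq hlo, mul_inv_eq_iff_eq_mul, z23, ← val23_append, ← val23_append,
    val23_eq_iff (by decide +kernel) (by decide +kernel)] at hq
  exact absurd hq (by decide +kernel)

theorem tp_injective : Function.Injective tp := by
  intro p q h
  obtain ⟨g, hg⟩ := exists_move q
  have h1 : g⁻¹ * tp p * (g⁻¹)⁻¹ = z23 := by
    rw [h, tp_eq hg]; group
  rw [tp_conj] at h1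
  have h2 := tp_eq_z23 h1
  rw [map_inv, Equiv.Perm.inv_def, Equiv.symm_apply_eq, hg] at h2
  exact h2

/-- A transposition fixes the point of another one iff they commute. -/
theorem rep_tp_eq_iff (p q : Fin FiTwentyThree.data.N) :
    rep (tp q) p = p ↔ tp q * tp p = tp p * tp q := by
  rw [← mul_inv_eq_iff_eq_mul, tp_conj]
  exact tp_injective.eq_iff.symm

end Cfsg.Agent.FiSylow
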